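import Cfsg.Agent.Char.Burnside
import Cfsg.Agent.GT.Rel

/-! The Brauer–Suzuki–Wall theorem, part 1: the hypothesis and the induced class functions. -/

set_option autoImplicit false
set_option linter.unusedSectionVars false
set_option linter.unusedVariables false

namespace Cfsg.Agent.Cls

open Cfsg Subgroup Cfsg.Agent.GT Cfsg.Agent.Char
open scoped ComplexConjugate

universe u

/-- The size of a conjugacy class. -/
theorem sum_ite_isConj {G : Type u} [Group G] [Fintype G] (g : G) [DecidablePred (IsConj g ·)] :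
    ∑ x : G, (if IsConj g x then (1 : ℂ) else 0) = (C1[g].index : ℂ) := by
  rw [← natCard_subtype_eq_sum_ite]
  congr 1
  have h2 : C1[g].index = (MulAction.stabilizer (ConjAct G) g).index := by
    rw [← (MulAction.stabilizer (ConjAct G) g).index_comap_of_surjective
      (f := ConjAct.toConjAct.toMonoidHom) ConjAct.toConjAct.surjective]
    congr 1
    ext x
    simp [mem_centralizer_singleton_iff, ConjAct.smul_def, mul_inv_eq_iff_eq_mul]
  rw [h2, MulAction.index_stabilizer, ← Nat.card_coe_set_eq]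
  refine Nat.card_congr (Equiv.subtypeEquivRight fun x => ?_)
  rw [ConjAct.mem_orbit_conjAct, isConj_comm]

/-- The hypothesis of the Brauer–Suzuki–Wall theorem. -/
structure BSW {G : Type u} [Group G] (H : Subgroup G) (t : G) : Prop where
  comm : ∀ a ∈ H, ∀ b ∈ H, a * b = b * a
  mem : t ∈ H
  sq : t * t = 1
  ne : t ≠ 1
  uniq : ∀ y ∈ H, y * y = 1 → y = 1 ∨ y = t
  card : Nat.card C1[t] = 2 * Nat.card H
  inv : ∀ s ∈ C1[t], s ∉ H → s * s = 1
  ti : ∀ y ∈ H, y ≠ 1 → ∀ g : G, g⁻¹ * y * g ∈ H → g ∈ C1[t]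
  fus : ∀ u : G, u * u = 1 → u ≠ 1 → IsConj t u

/-- `y` is conjugate to a non-identity element of `H`. -/
def InX {G : Type u} [Group G] (H : Subgroup G) (y : G) : Prop :=
  y ≠ 1 ∧ ∃ g : G, g⁻¹ * y * g ∈ H

theorem InX.of_isConj {G : Type u} [Group G] {H : Subgroup G} {y z : G} (h : InX H y)
    (hz : IsConj y z) : InX H z := by
  obtain ⟨c, rfl⟩ := isConj_iff.1 hz
  obtain ⟨h1, g, hg⟩ := h
  refine ⟨fun e => h1 (conj_eq_one_iff.1 e), c * g, ?_⟩
  rwa [show (c * g)⁻¹ * (c * y * c⁻¹) * (c * g) = g⁻¹ * y * g by group]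

theorem InX.exists_isConj {G : Type u} [Group G] {H : Subgroup G} {y : G} (h : InX H y) :
    ∃ z ∈ H, z ≠ 1 ∧ IsConj z y := by
  obtain ⟨h1, g, hg⟩ := h
  refine ⟨_, hg, fun e => h1 ?_, isConj_iff.2 ⟨g, by group⟩⟩
  rwa [show g⁻¹ * y * g = g⁻¹ * y * g⁻¹⁻¹ by rw [inv_inv], conj_eq_one_iff] at e

/-- The indicator function of the involutions. -/
noncomputable def invInd {G : Type u} [Group G] (u : G) : ℂ := by
  classical exact if u * u = 1 ∧ u ≠ 1 then 1 else 0

theorem invInd_class {G : Type u} [Group G] : IsClassFunction G invInd := by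
  intro g h
  have : (h * g * h⁻¹ * (h * g * h⁻¹) = 1 ∧ h * g * h⁻¹ ≠ 1) ↔ (g * g = 1 ∧ g ≠ 1) := by
    rw [show h * g * h⁻¹ * (h * g * h⁻¹) = h * (g * g) * h⁻¹ by group, conj_eq_one_iff, Ne,
      conj_eq_one_iff]
  unfold invInd
  split_ifs with h1 h2 h2
  exacts [rfl, absurd (this.1 h1) h2, absurd (this.2 h2) h1, rfl]

/-- The sum of a function over all products of two involutions. -/
noncomputable def invZ {G : Type u} [Group G] [Fintype G] (α : G → ℂ) : ℂ :=
  ∑ w : G, invInd w * ∑ u : G, invInd u * α (u * w)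

theorem invZ_add {G : Type u} [Group G] [Fintype G] (α β : G → ℂ) :
    invZ (α + β) = invZ α + invZ β := by
  simp only [invZ, Pi.add_apply, mul_add, Finset.sum_add_distrib]

theorem invZ_neg {G : Type u} [Group G] [Fintype G] (α : G → ℂ) : invZ (-α) = -invZ α := by
  simp only [invZ, Pi.neg_apply, mul_neg, Finset.sum_neg_distrib]

/-- The number of ways to write an element as a product of two involutions. -/
noncomputable def invN {G : Type u} [Group G] [Fintype G] (y : G) : ℂ :=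
  ∑ u : G, invInd u * invInd (u⁻¹ * y)

theorem invN_class {G : Type u} [Group G] [Fintype G] : IsClassFunction G invN := by
  intro g h
  unfold invN
  refine (Fintype.sum_equiv (MulAut.conj h).toEquiv _ _ fun u => ?_).symm
  simp only [MulEquiv.toEquiv_eq_coe, EquivLike.coe_coe, MulAut.conj_apply]
  rw [invInd_class u h, show (h * u * h⁻¹)⁻¹ * (h * g * h⁻¹) = h * (u⁻¹ * g) * h⁻¹ by group,
    invInd_class]

theorem conj_invN {G : Type u} [Group G] [Fintype G] (y : G) : conj (invN y) = invN y := by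
  have : ∀ u : G, conj (invInd u) = invInd u := fun u => by
    unfold invInd; split_ifs <;> simp
  simp only [invN, map_sum, map_mul, this]

theorem invZ_eq {G : Type u} [Group G] [Fintype G] (α : G → ℂ) :
    invZ α = Nat.card G * ⟪α, invN⟫ := by
  rw [card_mul_ci]
  simp only [conj_invN]
  simp only [invZ, invN, Finset.mul_sum]
  rw [Finset.sum_comm, Finset.sum_comm (f := fun y u => α y * (invInd u * invInd (u⁻¹ * y)))]
  refine Finset.sum_congr rfl fun u _ => ?_
  refine Fintype.sum_equiv (Equiv.mulLeft u) _ _ fun w => ?_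
  simp only [Equiv.coe_mulLeft, inv_mul_cancel_left]
  ring

namespace BSW

variable {G : Type u} [Group G] {H : Subgroup G} {t : G}

theorem le (h : BSW H t) : H ≤ C1[t] := fun y hy => mem_cent1.2 (h.comm y hy t h.mem)

theorem isMulCommutative (h : BSW H t) : IsMulCommutative H :=
  ⟨⟨fun a b => Subtype.ext (h.comm a a.2 b b.2)⟩⟩

theorem mul_not_mem (h : BSW H t) {s y : G} (hs : s ∉ H) (hy : y ∈ H) : s * y ∉ H :=
  fun e => hs (by simpa using H.mul_mem e (H.inv_mem hy))

theorem conj_eq_inv (h : BSW H t) {s y : G} (hs : s ∈ C1[t]) (hs' : s ∉ H) (hy : y ∈ H) :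
    s⁻¹ * y * s = y⁻¹ := by
  have h1 := h.inv s hs hs'
  have h2 := h.inv (s * y) (mul_mem hs (h.le hy)) (h.mul_not_mem hs' hy)
  rw [inv_eq_of_mul_eq_one_right h1, eq_inv_iff_mul_eq_one, ← h2]
  group

theorem inX_t (h : BSW H t) : InX H t := ⟨h.ne, 1, by simpa using h.mem⟩

theorem inX_of_sq (h : BSW H t) {u : G} (hu : u * u = 1) (hu1 : u ≠ 1) : InX H u :=
  h.inX_t.of_isConj (h.fus u hu hu1)

theorem inX_of_cent (h : BSW H t) {y : G} (hy : y ∈ C1[t]) (hy1 : y ≠ 1) : InX H y := by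
  by_cases hH : y ∈ H
  · exact ⟨hy1, 1, by simpa using hH⟩
  · exact h.inX_of_sq (h.inv y hy hH) hy1

theorem inX_of_comm (h : BSW H t) {y z : G} (hz : InX H z) (hyz : y * z = z * y) (hy1 : y ≠ 1) :
    InX H y := by
  obtain ⟨w, hw, hw1, hc⟩ := hz.exists_isConj
  obtain ⟨c, rfl⟩ := isConj_iff.1 hc
  have h1 : c⁻¹ * y * c ∈ C1[t] := by
    refine h.ti w hw hw1 _ ?_
    have : (c⁻¹ * y * c)⁻¹ * w * (c⁻¹ * y * c) = c⁻¹ * (y⁻¹ * (c * w * c⁻¹ * y)) * c := by group
    rw [this, ← hyz, show c⁻¹ * (y⁻¹ * (y * (c * w * c⁻¹))) * c = w by group]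
    exact hw
  refine (h.inX_of_cent h1 fun e => hy1 ?_).of_isConj (isConj_iff.2 ⟨c, by group⟩)
  rwa [show c⁻¹ * y * c = c⁻¹ * y * c⁻¹⁻¹ by rw [inv_inv], conj_eq_one_iff] at e

variable [Fintype G]

theorem card_eq (h : BSW H t) : Nat.card G = 2 * Nat.card H * C1[t].index := by
  rw [← h.card, card_mul_index]

theorem sum_ite_mem (K : Subgroup G) [DecidablePred (· ∈ K)] :
    ∑ x : G, (if x ∈ K then (1 : ℂ) else 0) = Nat.card K := by
  rw [← natCard_subtype_eq_sum_ite]

theorem sum_ite_outer (h : BSW H t) [DecidablePred fun x : G => x ∈ C1[t] ∧ x ∉ H] :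
    ∑ x : G, (if x ∈ C1[t] ∧ x ∉ H then (1 : ℂ) else 0) = Nat.card H := by
  classical
  have h1 : ∀ x : G, (if x ∈ C1[t] ∧ x ∉ H then (1 : ℂ) else 0) =
      (if x ∈ C1[t] then 1 else 0) - if x ∈ H then 1 else 0 := fun x => by
    by_cases hx : x ∈ H
    · simp [hx, h.le hx]
    · by_cases hx' : x ∈ C1[t] <;> simp [hx, hx']
  simp only [h1]
  rw [Finset.sum_sub_distrib, sum_ite_mem, sum_ite_mem, h.card]
  push_cast; ring

theorem ind_apply (h : BSW H t) {θ : H → ℂ} (h1 : θ 1 = 0) (y : H) :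
    indFun H θ y = θ y + θ y⁻¹ := by
  classical
  by_cases hy : y = 1
  · subst hy
    rw [OneMemClass.coe_one, indFun_apply_one, inv_one, h1]; simp
  have hy' : (y : G) ≠ 1 := fun e => hy (Subtype.ext e)
  have key : ∀ x : G, extendByZero H θ (x⁻¹ * y * x) =
      (if x ∈ H then 1 else 0) * θ y + (if x ∈ C1[t] ∧ x ∉ H then 1 else 0) * θ y⁻¹ := by
    intro x
    by_cases hx : x ∈ H
    · rw [mul_assoc, h.comm _ y.2 _ hx, inv_mul_cancel_left, extendByZero_coe]
      simp [hx]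
    · by_cases hx' : x ∈ C1[t]
      · rw [h.conj_eq_inv hx' hx y.2, ← coe_inv, extendByZero_coe]
        simp [hx, hx']
      · rw [extendByZero_of_not_mem _ _ fun e => hx' (h.ti y y.2 hy' x e)]
        simp [hx, hx']
  simp only [indFun, key]
  rw [Finset.sum_add_distrib, ← Finset.sum_mul, ← Finset.sum_mul, sum_ite_mem, h.sum_ite_outer,
    ← mul_add, ← mul_assoc, inv_mul_cancel₀ (card_ne_zero_complex H), one_mul]

theorem ind_zero {θ : H → ℂ} (h1 : θ 1 = 0) {y : G} (hy : ¬ InX H y) : indFun H θ y = 0 := by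
  refine indFun_eq_zero_of_forall H fun x hx => ?_
  by_cases e : y = 1
  · subst e
    convert h1 using 2
    exact Subtype.ext (by simp)
  · exact absurd ⟨e, x, hx⟩ hy

theorem invInd_eq (h : BSW H t) (u : G) [Decidable (IsConj t u)] :
    invInd u = if IsConj t u then 1 else 0 := by
  unfold invInd
  congr 1
  refine propext ⟨fun e => h.fus u e.1 e.2, fun e => ?_⟩
  obtain ⟨c, rfl⟩ := isConj_iff.1 e
  exact ⟨by rw [show c * t * c⁻¹ * (c * t * c⁻¹) = c * (t * t) * c⁻¹ by group, h.sq]; simp,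
    fun e => h.ne (conj_eq_one_iff.1 e)⟩

theorem sum_invInd_mul (h : BSW H t) {γ : G → ℂ} (hγ : IsClassFunction G γ) :
    ∑ u : G, invInd u * γ u = C1[t].index * γ t := by
  classical
  rw [← sum_ite_isConj, Finset.sum_mul]
  refine Finset.sum_congr rfl fun u _ => ?_
  rw [h.invInd_eq]
  split_ifs with e
  · rw [hγ.eq_of_isConj e]
  · simp

theorem invZ_irr (h : BSW H t) {γ : G → ℂ} (hγ : IsIrrCharacter G γ) :
    γ 1 * invZ γ = (C1[t].index : ℂ) ^ 2 * γ t ^ 2 := by
  have h1 : ∀ w, γ 1 * (invInd w * ∑ u : G, invInd u * γ (u * w)) =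
      (C1[t].index * γ t) * (invInd w * γ w) := fun w => by
    rw [mul_left_comm, hγ.sum_class_mul invInd_class, h.sum_invInd_mul hγ.isClassFunction]; ring
  rw [invZ, Finset.mul_sum]
  simp only [h1]
  rw [← Finset.mul_sum, h.sum_invInd_mul hγ.isClassFunction]; ring

theorem invZ_sirr (h : BSW H t) {γ : G → ℂ} (hγ : IsSIrr G γ) :
    γ 1 * invZ γ = (C1[t].index : ℂ) ^ 2 * γ t ^ 2 := by
  rcases hγ with hγ | hγ
  · exact h.invZ_irr hγ
  · have := h.invZ_irr hγ
    rw [invZ_neg, Pi.neg_apply, Pi.neg_apply] at this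
    linear_combination this

theorem invN_apply (h : BSW H t) {y : G} (hy : y ∈ H) (hy1 : y ≠ 1) :
    invN y = Nat.card H := by
  classical
  rw [invN, ← h.sum_ite_outer]
  refine Finset.sum_congr rfl fun u _ => ?_
  unfold invInd
  by_cases hu : u ∈ C1[t] ∧ u ∉ H
  · have h1 : u⁻¹ ∉ H := fun e => hu.2 (by simpa using H.inv_mem e)
    have h2 := h.mul_not_mem h1 hy
    rw [if_pos hu, if_pos ⟨h.inv u hu.1 hu.2, fun e => hu.2 (e ▸ H.one_mem)⟩,
      if_pos ⟨h.inv _ (mul_mem (inv_mem hu.1) (h.le hy)) h2, fun e => h2 (e ▸ H.one_mem)⟩, one_mul]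
  · rw [if_neg hu]
    split_ifs with h1 h2
    · exfalso
      have e : u⁻¹ * y * u = y⁻¹ := by
        rw [eq_inv_iff_mul_eq_one, ← h2.1, inv_eq_of_mul_eq_one_right h1.1]; group
      have huC : u ∈ C1[t] := h.ti y hy hy1 u (e ▸ H.inv_mem hy)
      have huH : u ∈ H := by_contra fun e => hu ⟨huC, e⟩
      have e1 := (h.uniq u huH h1.1).resolve_left h1.2
      have e2 := (h.uniq _ (mul_mem (inv_mem huH) hy) h2.1).resolve_left h2.2
      rw [e1, inv_mul_eq_iff_eq_mul, h.sq] at e2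
      exact hy1 e2
    all_goals simp

theorem invZ_ind (h : BSW H t) [Fintype H] {θ : H → ℂ} (h1 : θ 1 = 0) :
    invZ (indFun H θ) = Nat.card G * ∑ y : H, θ y := by
  rw [invZ_eq, ci_indFun_left H θ invN_class, ci_def]
  have : ∀ y : H, θ y * conj (invN (y : G)) = Nat.card H * θ y := fun y => by
    by_cases hy : y = 1
    · rw [hy, h1]; simp
    · rw [h.invN_apply y.2 fun e => hy (Subtype.ext e)]; simp [mul_comm]
  simp only [this]
  rw [← Finset.mul_sum, ← mul_assoc (Nat.card H : ℂ)⁻¹,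
    inv_mul_cancel₀ (card_ne_zero_complex H), one_mul]

/-- A virtual character that is `1` on `H^#` has degree `1` modulo `2|H|`. -/
theorem degree_eq_of_one (h : BSW H t) {γ : G → ℂ} (hγ : IsGeneralizedCharacter G γ)
    (h1 : ∀ y ∈ H, y ≠ 1 → γ y = 1) : ∃ k : ℤ, γ 1 = 1 + 2 * Nat.card H * k := by
  classical
  have h2 : ∀ y, InX H y → γ y = 1 := fun y hy => by
    obtain ⟨z, hz, hz1, hc⟩ := hy.exists_isConj
    rw [← hγ.isClassFunction.eq_of_isConj hc, h1 z hz hz1]
  obtain ⟨k, hk⟩ := ((hγ.restrict C1[t]).sub virt_one).ci_int virt_one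
  refine ⟨k, ?_⟩
  have h3 := congrArg ((Nat.card C1[t] : ℂ) * ·) hk
  simp only [card_mul_ci] at h3
  rw [Finset.sum_eq_single 1, h.card] at h3
  · simp only [Pi.sub_apply, OneMemClass.coe_one, map_one, mul_one] at h3
    push_cast at h3
    linear_combination h3
  · intro y _ hy
    simp [h2 y (h.inX_of_cent y.2 fun e => hy (Subtype.ext e))]
  · simp

end BSW

end Cfsg.Agent.Cls
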