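import Cfsg.Agent.Cls.BSW1

/-! The Brauer–Suzuki–Wall theorem, part 2: the exceptional characters and the group order. -/

set_option autoImplicit false
set_option linter.unusedSectionVars false
set_option linter.unusedVariables false

namespace Cfsg.Agent.Cls

open Cfsg Subgroup Cfsg.Agent.GT Cfsg.Agent.Char
open scoped ComplexConjugate

universe u

/-- `(1 - μ)^G`. -/
noncomputable def bswPhi {G : Type u} [Group G] [Fintype G] (H : Subgroup G) (μ : H → ℂ) :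
    G → ℂ := indFun H ((fun _ => 1) - μ)

/-- `(1 - μ)^G - 1`. -/
noncomputable def bswV {G : Type u} [Group G] [Fintype G] (H : Subgroup G) (μ : H → ℂ) :
    G → ℂ := bswPhi H μ - fun _ => 1

theorem int_cases_of_sq {a b : ℤ} (h : a + b = 1) (ha : (a : ℝ) ^ 2 ≤ 3) (hb : (b : ℝ) ^ 2 ≤ 3) :
    (a = 1 ∧ b = 0) ∨ (a = 0 ∧ b = 1) := by
  have ha' : a ^ 2 ≤ 3 := by exact_mod_cast ha
  have hb' : b ^ 2 ≤ 3 := by exact_mod_cast hb
  have h1 : a ≤ 1 := by nlinarith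
  have h2 : b ≤ 1 := by nlinarith
  omega

namespace BSW

variable {G : Type u} [Group G] [Fintype G] {H : Subgroup G} [Fintype H] {t : G} {μ ν : H → ℂ}
  {γ : G → ℂ}

theorem irr_one (h : BSW H t) (hμ : IsIrrCharacter H μ) : μ 1 = 1 := by
  have := h.isMulCommutative
  exact hμ.degree_one_of_comm

theorem irr_mul (h : BSW H t) (hμ : IsIrrCharacter H μ) (a b : H) : μ (a * b) = μ a * μ b := by
  have := h.isMulCommutative
  obtain ⟨f, rfl⟩ := hμ.exists_hom_of_comm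
  simp

theorem irr_t (h : BSW H t) (hμ : IsIrrCharacter H μ) :
    μ ⟨t, h.mem⟩ = 1 ∨ μ ⟨t, h.mem⟩ = -1 := by
  rw [← mul_self_eq_one_iff, ← h.irr_mul hμ, ← h.irr_one hμ]
  congr 1
  exact Subtype.ext h.sq

theorem conjFun_t (h : BSW H t) (hμ : IsIrrCharacter H μ) :
    conjFun μ ⟨t, h.mem⟩ = μ ⟨t, h.mem⟩ := by
  rcases h.irr_t hμ with e | e <;> simp [e]

theorem sum_irr (h : BSW H t) {y : H} (hy : y ≠ 1) : ∑ μ ∈ Irr H, μ y = 0 := by
  classical
  have := sum_irr_degree_mul y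
  rw [if_neg hy] at this
  rw [← this]
  exact Finset.sum_congr rfl fun μ hμ => by rw [h.irr_one (mem_Irr.1 hμ), one_mul]

theorem phi_virt (hμ : IsIrrCharacter H μ) : IsGeneralizedCharacter G (bswPhi H μ) :=
  (virt_one.sub hμ.virt).indFun

theorem v_virt (hμ : IsIrrCharacter H μ) : IsGeneralizedCharacter G (bswV H μ) :=
  (phi_virt hμ).sub virt_one

theorem phi_apply (h : BSW H t) (hμ : IsIrrCharacter H μ) (y : H) :
    bswPhi H μ y = 2 - μ y - conjFun μ y := by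
  rw [bswPhi, h.ind_apply (by simp [h.irr_one hμ])]
  simp only [Pi.sub_apply, hμ.isCharacter.apply_inv, conjFun_apply]
  ring

theorem v_t (h : BSW H t) (hμ : IsIrrCharacter H μ) :
    bswV H μ t = 1 - 2 * μ ⟨t, h.mem⟩ := by
  have := h.phi_apply hμ ⟨t, h.mem⟩
  rw [h.conjFun_t hμ] at this
  rw [bswV, Pi.sub_apply, this]; ring

theorem v_apply_of_not (h : BSW H t) (hμ : IsIrrCharacter H μ) {y : G} (hy : ¬ InX H y) :
    bswV H μ y = -1 := by
  rw [bswV, Pi.sub_apply, bswPhi, ind_zero (by simp [h.irr_one hμ]) hy]; simp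

theorem v_one (h : BSW H t) (hμ : IsIrrCharacter H μ) : bswV H μ 1 = -1 :=
  h.v_apply_of_not hμ fun e => e.1 rfl

theorem ci_phi (hγ : IsClassFunction G γ) :
    ⟪γ, bswPhi H μ⟫ = ⟪fun y : H => γ y, fun _ => 1⟫ - ⟪fun y : H => γ y, μ⟫ := by
  rw [bswPhi, ci_indFun_right H hγ, ci_sub_right]

theorem ci_phi_of_one (h : BSW H t) (hμ : IsIrrCharacter H μ) (h1 : μ ≠ fun _ => 1)
    (hγ : IsClassFunction G γ) (hγ1 : ∀ y ∈ H, y ≠ 1 → γ y = 1) : ⟪γ, bswPhi H μ⟫ = 1 := by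
  have e : ⟪fun y : H => γ y, (fun _ => 1) - μ⟫ = ⟪fun _ : H => 1, (fun _ => 1) - μ⟫ := by
    rw [ci_def, ci_def]
    congr 1
    refine Finset.sum_congr rfl fun y _ => ?_
    by_cases hy : y = 1
    · simp [hy, h.irr_one hμ]
    · rw [hγ1 y y.2 fun e => hy (Subtype.ext e)]
  rw [bswPhi, ci_indFun_right H hγ, e, ci_sub_right, ci_one_one,
    isIrrCharacter_one.ci_of_ne hμ h1.symm, sub_zero]

theorem ci_one_v (h : BSW H t) (hμ : IsIrrCharacter H μ) (h1 : μ ≠ fun _ => 1) :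
    ⟪fun _ => 1, bswV H μ⟫ = 0 := by
  rw [bswV, ci_sub_right, h.ci_phi_of_one hμ h1 (isClassFunction_const 1) fun _ _ _ => rfl,
    ci_one_one, sub_self]

theorem conjFun_ne_one (hμ : IsIrrCharacter H μ) (h1 : μ ≠ fun _ => 1) :
    conjFun μ ≠ fun _ => 1 := fun e => h1 (by
  rw [← conjFun_conjFun μ, e]; ext; simp)

theorem ci_v_v (h : BSW H t) (hμ : IsIrrCharacter H μ) (h1 : μ ≠ fun _ => 1)
    (hν : IsIrrCharacter H ν) (h2 : ν ≠ fun _ => 1) :
    ⟪bswV H μ, bswV H ν⟫ = 1 + ⟪μ, ν⟫ + ⟪conjFun μ, ν⟫ := by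
  have e : (fun y : H => bswPhi H μ y) = (2 : ℂ) • (fun _ => 1) - μ - conjFun μ := by
    ext y; simp [h.phi_apply hμ]
  have e2 : ⟪bswPhi H μ, fun _ => 1⟫ = 1 := by
    rw [← ci_conj_symm, h.ci_phi_of_one hμ h1 (isClassFunction_const 1) fun _ _ _ => rfl, map_one]
  rw [bswV, ci_sub_left, h.ci_one_v hν h2, bswV, ci_sub_right, e2,
    ci_phi (phi_virt hμ).isClassFunction, e]
  simp only [ci_sub_left, ci_smul_left, ci_one_one, hμ.ci_of_ne isIrrCharacter_one h1,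
    hμ.conjFun.ci_of_ne isIrrCharacter_one (conjFun_ne_one hμ h1),
    isIrrCharacter_one.ci_of_ne hν h2.symm]
  ring

theorem v_conjFun (h : BSW H t) (hμ : IsIrrCharacter H μ) : bswV H (conjFun μ) = bswV H μ := by
  ext g
  by_cases hg : InX H g
  · obtain ⟨z, hz, -, hc⟩ := hg.exists_isConj
    rw [← (v_virt hμ).isClassFunction.eq_of_isConj hc,
      ← (v_virt hμ.conjFun).isClassFunction.eq_of_isConj hc]
    have e1 := h.phi_apply hμ ⟨z, hz⟩
    have e2 := h.phi_apply hμ.conjFun ⟨z, hz⟩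
    simp only [bswV, Pi.sub_apply]
    rw [e1, e2, conjFun_conjFun]; ring
  · rw [h.v_apply_of_not hμ hg, h.v_apply_of_not hμ.conjFun hg]

open Classical in
theorem apply_eq (h : BSW H t) (hγ : IsClassFunction G γ) (h0 : ⟪γ, fun _ => 1⟫ = 0) {y : H}
    (hy : y ≠ 1) : γ y = -∑ μ ∈ (Irr H).erase (fun _ => 1), ⟪γ, bswV H μ⟫ * μ y := by
  have e1 := (hγ.restrict H).apply_eq_sum_irr y
  have e2 := h.sum_irr hy
  have e3 : ∑ μ ∈ Irr H, ⟪γ, bswPhi H μ⟫ * μ y = -γ y := by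
    simp only [ci_phi hγ, sub_mul]
    rw [Finset.sum_sub_distrib, ← Finset.mul_sum, e2, ← e1]; simp
  rw [← Finset.add_sum_erase _ _ (mem_Irr.2 isIrrCharacter_one)] at e3
  simp only [bswV, ci_sub_right, h0, sub_zero]
  rw [ci_phi hγ, sub_self, zero_mul, zero_add] at e3
  rw [e3, neg_neg]

open Classical in
theorem sum_erase (h : BSW H t) {y : H} (hy : y ≠ 1) :
    ∑ μ ∈ (Irr H).erase (fun _ => 1), μ y = -1 := by
  have e2 := h.sum_irr hy
  rw [← Finset.add_sum_erase _ _ (mem_Irr.2 isIrrCharacter_one)] at e2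
  linear_combination e2

theorem invZ_v (h : BSW H t) (hμ : IsIrrCharacter H μ) (h1 : μ ≠ fun _ => 1) :
    invZ (bswV H μ) = Nat.card G * Nat.card H - (C1[t].index : ℂ) ^ 2 := by
  have e1 := h.invZ_irr isIrrCharacter_one
  have e2 := card_mul_ci ((fun _ => 1) - μ) fun _ => 1
  rw [ci_sub_left, ci_one_one, hμ.ci_of_ne isIrrCharacter_one h1] at e2
  simp only [map_one, mul_one, sub_zero] at e2
  rw [bswV, sub_eq_add_neg, invZ_add, invZ_neg, bswPhi, h.invZ_ind (by simp [h.irr_one hμ]), ← e2]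
  linear_combination -e1

theorem exists_real (h : BSW H t) : ∃ ε : H → ℂ, IsIrrCharacter H ε ∧ (ε ≠ fun _ => 1) ∧
    conjFun ε = ε ∧ ∀ μ, IsIrrCharacter H μ → conjFun μ = μ → μ = (fun _ => 1) ∨ μ = ε := by
  classical
  have e1 : ∀ μ ∈ Irr H, (if conjFun μ = μ then (1 : ℂ) else 0) =
      (Nat.card H : ℂ)⁻¹ * ∑ y : H, μ 1 * μ (y * y) := fun μ hμ => by
    have hμ := mem_Irr.1 hμ
    rw [← hμ.conjFun.ci_eq_ite hμ, hμ.conjFun.isCharacter.ci_comm hμ.isCharacter, ci_def]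
    congr 1
    refine Finset.sum_congr rfl fun y _ => ?_
    simp [h.irr_mul hμ, h.irr_one hμ]
  have e2 := Finset.sum_congr rfl e1
  rw [← Finset.mul_sum, Finset.sum_comm] at e2
  simp only [sum_irr_degree_mul] at e2
  have e3 : ∑ y : H, (if y * y = 1 then (Nat.card H : ℂ) else 0) = 2 * Nat.card H := by
    rw [← Finset.sum_filter]
    have : (Finset.univ.filter fun y : H => y * y = 1) = {1, ⟨t, h.mem⟩} := by
      ext y
      simp only [Finset.mem_filter, Finset.mem_univ, true_and, Finset.mem_insert,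
        Finset.mem_singleton, Subtype.ext_iff, coe_mul, OneMemClass.coe_one]
      exact ⟨h.uniq y y.2, fun e => by rcases e with e | e <;> simp [e, h.sq]⟩
    rw [this, Finset.sum_pair fun e => h.ne (Subtype.ext_iff.1 e).symm]; ring
  rw [e3, Finset.sum_boole, mul_comm 2, ← mul_assoc, inv_mul_cancel₀ (card_ne_zero_complex H),
    one_mul] at e2
  obtain ⟨a, b, hab, e⟩ := Finset.card_eq_two.1 (by exact_mod_cast e2)
  have e4 : ∀ μ, (IsIrrCharacter H μ ∧ conjFun μ = μ) ↔ μ = a ∨ μ = b := fun μ => by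
    have := Finset.ext_iff.1 e μ
    simpa using this
  rcases (e4 fun _ => 1).1 ⟨isIrrCharacter_one, by ext; simp⟩ with e5 | e5
  · have := (e4 b).2 (Or.inr rfl)
    exact ⟨b, this.1, e5 ▸ hab.symm, this.2, fun μ h1 h2 => e5 ▸ (e4 μ).1 ⟨h1, h2⟩⟩
  · have := (e4 a).2 (Or.inl rfl)
    exact ⟨a, this.1, e5 ▸ hab, this.2, fun μ h1 h2 => e5 ▸ ((e4 μ).1 ⟨h1, h2⟩).symm⟩

theorem nsq_v_two (h : BSW H t) (hμ : IsIrrCharacter H μ) (h1 : conjFun μ ≠ μ) :
    nsq (bswV H μ) = 2 := by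
  have h2 : μ ≠ fun _ => 1 := fun e => h1 (by rw [e]; ext; simp)
  refine nsq_eq_of_ci ?_
  rw [h.ci_v_v hμ h2 hμ h2, hμ.ci_self, hμ.conjFun.ci_of_ne hμ h1]; norm_num

theorem nsq_v_three (h : BSW H t) (hμ : IsIrrCharacter H μ) (h2 : μ ≠ fun _ => 1)
    (h1 : conjFun μ = μ) : nsq (bswV H μ) = 3 := by
  refine nsq_eq_of_ci ?_
  rw [h.ci_v_v hμ h2 hμ h2, h1, hμ.ci_self]; norm_num

theorem ci_v_v_of_ne (h : BSW H t) (hμ : IsIrrCharacter H μ) (h1 : μ ≠ fun _ => 1)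
    (hν : IsIrrCharacter H ν) (h2 : ν ≠ fun _ => 1) (h3 : μ ≠ ν) (h4 : conjFun μ ≠ ν) :
    ⟪bswV H μ, bswV H ν⟫ = 1 := by
  rw [h.ci_v_v hμ h1 hν h2, hμ.ci_of_ne hν h3, hμ.conjFun.ci_of_ne hν h4]; simp

end BSW

end Cfsg.Agent.Cls
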