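import Cfsg.Agent.Cls.BSW2

/-! The Brauer–Suzuki–Wall theorem, part 3: the common constituent and the group order. -/

set_option autoImplicit false
set_option linter.unusedSectionVars false
set_option linter.unusedVariables false

namespace Cfsg.Agent.Cls

open Cfsg Subgroup Cfsg.Agent.GT Cfsg.Agent.Char
open scoped ComplexConjugate

universe u

theorem lt_eighteen {N x y z : ℤ} (hx : 0 < x) (hy : y ≠ 0) (hz : z ≠ 0)
    (h : N * (x * y * z) = (2 * x - 1) * (2 * y - 1) * (2 * z - 1)) : N < 18 := by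
  have h1 : ∀ w : ℤ, w ≠ 0 → |2 * w - 1| ≤ 3 * |w| := fun w hw => by
    rcases lt_or_gt_of_ne hw with h | h
    · rw [abs_of_neg h, abs_of_neg (by omega)]; omega
    · rw [abs_of_pos h, abs_of_pos (by omega)]; omega
  have h2 := congrArg abs h
  simp only [abs_mul] at h2
  rw [abs_of_pos hx, abs_of_pos (show 0 < 2 * x - 1 by omega)] at h2
  have hy' := abs_pos.2 hy
  have hz' := abs_pos.2 hz
  have h3 : |2 * y - 1| * |2 * z - 1| ≤ (3 * |y|) * (3 * |z|) :=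
    mul_le_mul (h1 y hy) (h1 z hz) (abs_nonneg _) (by positivity)
  have h4 : 0 < |y| * |z| := by positivity
  by_contra h5
  have h6 : 18 ≤ |N| := (not_lt.1 h5).trans (le_abs_self N)
  have h7 : 18 * (x * |y| * |z|) ≤ |N| * (x * |y| * |z|) :=
    mul_le_mul_of_nonneg_right h6 (by positivity)
  have h8 : (2 * x - 1) * (|2 * y - 1| * |2 * z - 1|) ≤ (2 * x - 1) * ((3 * |y|) * (3 * |z|)) :=
    mul_le_mul_of_nonneg_left h3 (by omega)
  nlinarith

theorem sirr_perp_one {G : Type u} [Group G] [Fintype G] {α v : G → ℂ} (hα : IsSIrr G α)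
    (hv : ⟪fun _ => 1, v⟫ = 0) (h : ⟪v, α⟫ ≠ 0) : ⟪α, fun _ => 1⟫ = 0 := by
  by_contra h1
  have hv' := ci_eq_zero_symm hv
  rcases hα.eq_or_eq_neg_of_ci_ne_zero isIrrCharacter_one.isSIrr h1 with e | e
  · exact h (e ▸ hv')
  · exact h (by rw [e, ci_neg_right, hv', neg_zero])

theorem ci_cases_of_add {G : Type u} [Group G] [Fintype G] {v α β : G → ℂ}
    (hv : IsGeneralizedCharacter G v) (h3 : nsq v ≤ 3) (hα : IsSIrr G α) (hβ : IsSIrr G β)
    (h : ⟪v, α + β⟫ = 1) : (⟪v, α⟫ = 1 ∧ ⟪v, β⟫ = 0) ∨ (⟪v, α⟫ = 0 ∧ ⟪v, β⟫ = 1) := by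
  obtain ⟨a, ha⟩ := hv.ci_int hα.virt
  obtain ⟨b, hb⟩ := hv.ci_int hβ.virt
  rw [ci_add_right, ha, hb] at h
  rcases int_cases_of_sq (a := a) (b := b) (by exact_mod_cast h)
    ((sq_le_nsq_of_ci hα.ci_self ha).trans h3) ((sq_le_nsq_of_ci hβ.ci_self hb).trans h3) with
    ⟨rfl, rfl⟩ | ⟨rfl, rfl⟩
  · exact Or.inl ⟨by simpa using ha, by simpa using hb⟩
  · exact Or.inr ⟨by simpa using ha, by simpa using hb⟩

namespace BSW

variable {G : Type u} [Group G] [Fintype G] {H : Subgroup G} [Fintype H] {t : G}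
  {l μ ν : H → ℂ} {γ : G → ℂ}

theorem index_ne_zero (h : BSW H t) : (C1[t].index : ℂ) ≠ 0 :=
  Nat.cast_ne_zero.2 index_ne_zero_of_finite

theorem exists_common (h : BSW H t) (hl : IsIrrCharacter H l) (hr : conjFun l ≠ l) :
    ∃ χ β : G → ℂ, IsSIrr G χ ∧ IsSIrr G β ∧ ⟪χ, β⟫ = 0 ∧ bswV H l = χ + β ∧
      ∀ μ, IsIrrCharacter H μ → (μ ≠ fun _ => 1) → ⟪bswV H μ, χ⟫ = 1 := by
  classical
  obtain ⟨ε, hε, hε1, hεr, hεu⟩ := h.exists_real
  have ne1 : ∀ {ν : H → ℂ}, conjFun ν ≠ ν → ν ≠ fun _ => 1 := fun h1 e =>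
    h1 (by rw [e]; ext; simp)
  have neε : ∀ {ν : H → ℂ}, conjFun ν ≠ ν → ε ≠ ν := fun h1 e => h1 (e ▸ hεr)
  have cε : ∀ {ν : H → ℂ}, IsIrrCharacter H ν → conjFun ν ≠ ν → ⟪bswV H ε, bswV H ν⟫ = 1 :=
    fun hν h1 => h.ci_v_v_of_ne hε hε1 hν (ne1 h1) (neε h1) (hεr.symm ▸ neε h1)
  have nε := h.nsq_v_three hε hε1 hεr
  obtain ⟨χ, β, hχ, hβ, o1, e1, c1, c2⟩ : ∃ χ β : G → ℂ, IsSIrr G χ ∧ IsSIrr G β ∧ ⟪χ, β⟫ = 0 ∧
      bswV H l = χ + β ∧ ⟪bswV H ε, χ⟫ = 1 ∧ ⟪bswV H ε, β⟫ = 0 := by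
    obtain ⟨α, β, hα, hβ, o, e⟩ := (v_virt hl).exists_of_nsq_two (h.nsq_v_two hl hr)
    rcases ci_cases_of_add (v_virt hε) nε.le hα hβ (e ▸ cε hl hr) with h1 | h1
    · exact ⟨α, β, hα, hβ, o, e, h1⟩
    · exact ⟨β, α, hβ, hα, ci_eq_zero_symm o, e.trans (add_comm _ _), h1.symm⟩
  refine ⟨χ, β, hχ, hβ, o1, e1, fun μ hμ hμ1 => by_contra fun hne => ?_⟩
  have o1' := ci_eq_zero_symm o1
  have cl : ⟪bswV H l, χ⟫ = 1 := by rw [e1, ci_add_left, hχ.ci_self, o1', add_zero]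
  have hμε : μ ≠ ε := fun e => hne (e ▸ c1)
  have hμl : μ ≠ l := fun e => hne (e ▸ cl)
  have hμl' : μ ≠ conjFun l := fun e => hne (by rw [e, h.v_conjFun hl, cl])
  have hμr : conjFun μ ≠ μ := fun e => (hεu μ hμ e).elim hμ1 hμε
  have swap : ∀ {a b : H → ℂ}, a ≠ conjFun b → conjFun a ≠ b := fun h1 e =>
    h1 (by rw [← e, conjFun_conjFun])
  obtain ⟨c3, c4⟩ : ⟪bswV H μ, χ⟫ = 0 ∧ ⟪bswV H μ, β⟫ = 1 :=
    (ci_cases_of_add (v_virt hμ) (by rw [h.nsq_v_two hμ hμr]; norm_num) hχ hβ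
      (e1 ▸ h.ci_v_v_of_ne hμ hμ1 hl (ne1 hr) hμl (swap hμl'))).resolve_left fun e => hne e.1
  obtain ⟨γ, hγ, e2⟩ : ∃ γ, IsSIrr G γ ∧ bswV H μ = γ + β :=
    ⟨bswV H μ - β, ((v_virt hμ).sub hβ.virt).isSIrr_of_nsq (by
      rw [nsq_sub, h.nsq_v_two hμ hμr, hβ.nsq, c4]; norm_num), by simp⟩
  have o2 : ⟪γ, β⟫ = 0 := by rw [e2, ci_add_left, hβ.ci_self] at c4; linear_combination c4
  have o3 : ⟪γ, χ⟫ = 0 := by rw [e2, ci_add_left, o1'] at c3; linear_combination c3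
  have o2' := ci_eq_zero_symm o2
  have o3' := ci_eq_zero_symm o3
  have c5 : ⟪bswV H ε, γ⟫ = 1 := by
    have := cε hμ hμr
    rw [e2, ci_add_right, c2] at this; linear_combination this
  obtain ⟨δ, hδ, e3⟩ : ∃ δ, IsSIrr G δ ∧ bswV H ε = χ + γ + δ :=
    ⟨bswV H ε - (χ + γ), ((v_virt hε).sub (hχ.virt.add hγ.virt)).isSIrr_of_nsq (by
      rw [nsq_sub, nε, nsq_add_of_orth o3', hχ.nsq, hγ.nsq, ci_add_right, c1, c5]; norm_num),
      by simp⟩
  have o4 : ⟪δ, χ⟫ = 0 := by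
    rw [e3, ci_add_left, ci_add_left, hχ.ci_self, o3] at c1; linear_combination c1
  have o5 : ⟪δ, γ⟫ = 0 := by
    rw [e3, ci_add_left, ci_add_left, hγ.ci_self, o3'] at c5; linear_combination c5
  have o6 : ⟪δ, β⟫ = 0 := by
    rw [e3, ci_add_left, ci_add_left, o1, o2] at c2; linear_combination c2
  have d1 := congrFun e1 1
  have d2 := congrFun e2 1
  have d3 := congrFun e3 1
  rw [h.v_one hl, Pi.add_apply] at d1
  rw [h.v_one hμ, Pi.add_apply] at d2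
  rw [h.v_one hε, Pi.add_apply, Pi.add_apply] at d3
  have cover : (Irr H).erase (fun _ => 1) = {ε, l, conjFun l, μ, conjFun μ} := by
    ext ν
    simp only [Finset.mem_erase, mem_Irr, Finset.mem_insert, Finset.mem_singleton]
    refine ⟨fun ⟨hν1, hν⟩ => by_contra fun hno => ?_, ?_⟩
    swap
    · rintro (rfl | rfl | rfl | rfl | rfl)
      exacts [⟨hε1, hε⟩, ⟨ne1 hr, hl⟩, ⟨conjFun_ne_one hl (ne1 hr), hl.conjFun⟩, ⟨hμ1, hμ⟩,
        ⟨conjFun_ne_one hμ hμ1, hμ.conjFun⟩]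
    simp only [not_or] at hno
    obtain ⟨n1, n2, n3, n4, n5⟩ := hno
    have hνr : conjFun ν ≠ ν := fun e => (hεu ν hν e).elim hν1 n1
    have nν := h.nsq_v_two hν hνr
    have a1 := h.ci_v_v_of_ne hν hν1 hl (ne1 hr) n2 (swap n3)
    have a2 := h.ci_v_v_of_ne hν hν1 hμ hμ1 n4 (swap n5)
    have a3 : ⟪bswV H ν, bswV H ε⟫ = 1 := by rw [← ci_conj_symm, cε hν hνr, map_one]
    rw [e2, ci_add_right] at a2
    rw [e3, ci_add_right, ci_add_right] at a3
    rcases ci_cases_of_add (v_virt hν) (by rw [nν]; norm_num) hχ hβ (e1 ▸ a1) with ⟨b1, b2⟩ | ⟨b1, b2⟩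
    · have b3 : ⟪bswV H ν, γ⟫ = 1 := by linear_combination a2 - b2
      have b4 : ⟪bswV H ν, δ⟫ = -1 := by linear_combination a3 - b1 - b3
      have := nsq_nonneg (bswV H ν - (χ + γ - δ))
      rw [nsq_sub, nν, nsq_sub_of_orth (by
        rw [ci_add_left, ci_eq_zero_symm o4, ci_eq_zero_symm o5, add_zero]),
        nsq_add_of_orth o3', hχ.nsq, hγ.nsq, hδ.nsq, ci_sub_right, ci_add_right, b1, b3, b4] at this
      norm_num at this
    · have b3 : ⟪bswV H ν, γ⟫ = 0 := by linear_combination a2 - b2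
      have b4 : ⟪bswV H ν, δ⟫ = 1 := by linear_combination a3 - b1 - b3
      have : nsq (bswV H ν - (δ + β)) = 0 := by
        rw [nsq_sub, nν, nsq_add_of_orth o6, hδ.nsq, hβ.nsq, ci_add_right, b2, b4]; norm_num
      have d4 := congrFun (nsq_eq_zero.1 this) 1
      rw [Pi.sub_apply, h.v_one hν, Pi.add_apply, Pi.zero_apply] at d4
      obtain ⟨n, hn⟩ := hχ.virt.exists_int_one
      have : (3 * n : ℤ) = (-1 : ℤ) := by
        have : (3 * n : ℂ) = -1 := by linear_combination -3 * hn - d3 - 2 * d1 + d2 + d4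
        exact_mod_cast this
      omega
  have ht : (⟨t, h.mem⟩ : H) ≠ 1 := fun e => h.ne (Subtype.ext_iff.1 e)
  have p1 := sirr_perp_one hχ (h.ci_one_v hε hε1) (by rw [c1]; exact one_ne_zero)
  have p2 := sirr_perp_one hγ (h.ci_one_v hε hε1) (by rw [c5]; exact one_ne_zero)
  have s1 := h.apply_eq hχ.isClassFunction p1 ht
  have s2 := h.apply_eq hγ.isClassFunction p2 ht
  have s3 := h.sum_erase ht
  have hrr : conjFun (conjFun l) ≠ conjFun l := by rw [conjFun_conjFun]; exact hr.symm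
  have hμrr : conjFun (conjFun μ) ≠ conjFun μ := by rw [conjFun_conjFun]; exact hμr.symm
  have n1 : ε ∉ ({l, conjFun l, μ, conjFun μ} : Finset (H → ℂ)) := by
    simp [neε hr, neε hrr, neε hμr, neε hμrr]
  have n2 : l ∉ ({conjFun l, μ, conjFun μ} : Finset (H → ℂ)) := by
    simp [hr.symm, hμl.symm, (swap hμl').symm]
  have n3 : conjFun l ∉ ({μ, conjFun μ} : Finset (H → ℂ)) := by
    simp only [Finset.mem_insert, Finset.mem_singleton, not_or]
    exact ⟨hμl'.symm, swap (by rw [conjFun_conjFun]; exact hμl.symm)⟩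
  rw [cover, Finset.sum_insert n1, Finset.sum_insert n2, Finset.sum_insert n3,
    Finset.sum_pair hμr.symm] at s1 s2 s3
  have q1 : ⟪χ, bswV H ε⟫ = 1 := by rw [← ci_conj_symm, c1, map_one]
  have q2 : ⟪χ, bswV H l⟫ = 1 := by rw [← ci_conj_symm, cl, map_one]
  have q3 : ⟪χ, bswV H μ⟫ = 0 := ci_eq_zero_symm c3
  have q4 : ⟪γ, bswV H ε⟫ = 1 := by rw [← ci_conj_symm, c5, map_one]
  have q5 : ⟪γ, bswV H l⟫ = 0 := by rw [e1, ci_add_right, o2, o3, add_zero]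
  have q6 : ⟪γ, bswV H μ⟫ = 1 := by rw [e2, ci_add_right, o2, hγ.ci_self, add_zero]
  rw [h.v_conjFun hl, h.v_conjFun hμ, h.conjFun_t hl, h.conjFun_t hμ] at s1 s2
  rw [h.conjFun_t hl, h.conjFun_t hμ] at s3
  rw [q1, q2, q3] at s1
  rw [q4, q5, q6] at s2
  have z1 := h.invZ_v hl (ne1 hr)
  have z2 := h.invZ_v hμ hμ1
  rw [e1, invZ_add] at z1
  rw [e2, invZ_add] at z2
  have z3 : χ t ^ 2 = γ t ^ 2 := by
    refine mul_left_cancel₀ (pow_ne_zero 2 h.index_ne_zero) ?_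
    rw [← h.invZ_sirr hχ, ← h.invZ_sirr hγ, show χ 1 = γ 1 by linear_combination d2 - d1,
      show invZ χ = invZ γ by linear_combination z1 - z2]
  simp only at s1 s2
  rw [s1, s2] at z3
  rcases h.irr_t hε with f1 | f1 <;> rcases h.irr_t hl with f2 | f2 <;>
    rcases h.irr_t hμ with f3 | f3 <;> rw [f1, f2, f3] at s3 z3 <;>
      first | (norm_num at s3; done) | norm_num at z3

theorem card_sixty [IsSimpleGroup G] (h : BSW H t) (hG : ¬ IsMulCommutative G)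
    (hr : ∀ l, IsIrrCharacter H l → conjFun l = l) : Nat.card G = 60 := by
  classical
  obtain ⟨ε, hε, hε1, hεr, hεu⟩ := h.exists_real
  have cover : (Irr H).erase (fun _ => 1) = {ε} := by
    ext ν
    simp only [Finset.mem_erase, mem_Irr, Finset.mem_singleton]
    exact ⟨fun ⟨h1, h2⟩ => (hεu ν h2 (hr ν h2)).resolve_left h1, fun e => e ▸ ⟨hε1, hε⟩⟩
  have hH : Nat.card H = 2 := by
    have := sum_irr_degree_sq H
    rw [← Finset.add_sum_erase _ _ (mem_Irr.2 isIrrCharacter_one), cover, Finset.sum_singleton,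
      h.irr_one hε] at this
    norm_num at this
    rw [Nat.card_eq_fintype_card]
    exact_mod_cast this.symm
  have nε := h.nsq_v_three hε hε1 hεr
  obtain ⟨α, hα, c1, c2, n1⟩ := (v_virt hε).exists_sirr_one
    (fun e => by rw [e, nsq_eq_zero.2 rfl] at nε; norm_num at nε) (by rw [nε]; norm_num)
  obtain ⟨β, γ, hβ, hγ, o1, e1⟩ := ((v_virt hε).sub hα.virt).exists_of_nsq_two
    (by rw [n1, nε]; norm_num)
  have e2 : bswV H ε = α + (β + γ) := by rw [← e1]; simp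
  have o2 : ⟪β, α⟫ = 0 ∧ ⟪γ, α⟫ = 0 := by
    rw [e1, ci_add_left] at c2
    rcases hβ.ci_cases hα with ⟨e, h1⟩ | ⟨e, h1⟩ | ⟨-, -, h1⟩
    · rw [e] at o1
      rw [h1, ci_eq_zero_symm o1] at c2; norm_num at c2
    · rw [e, ci_neg_left, neg_eq_zero] at o1
      rw [h1, ci_eq_zero_symm o1] at c2; norm_num at c2
    · exact ⟨h1, by linear_combination c2 - h1⟩
  have key : ∀ γ, IsSIrr G γ → ⟪bswV H ε, γ⟫ = 1 → (∃ k : ℤ, γ 1 = 1 + 4 * k) ∧
      γ 1 * invZ γ = (C1[t].index : ℂ) ^ 2 := fun γ hγ c => by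
    have h1 : ∀ y ∈ H, y ≠ 1 → γ y = 1 := fun y hy hy1 => by
      have hy' : (⟨y, hy⟩ : H) ≠ 1 := fun e => hy1 (Subtype.ext_iff.1 e)
      have s1 := h.apply_eq hγ.isClassFunction
        (sirr_perp_one hγ (h.ci_one_v hε hε1) (by rw [c]; exact one_ne_zero)) hy'
      have s2 := h.sum_erase hy'
      rw [cover, Finset.sum_singleton] at s1 s2
      rw [← ci_conj_symm, c, s2] at s1
      simpa using s1
    refine ⟨?_, by rw [h.invZ_sirr hγ, h1 t h.mem h.ne]; simp⟩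
    obtain ⟨k, hk⟩ := h.degree_eq_of_one hγ.virt h1
    exact ⟨k, by rw [hk, hH]; push_cast; ring⟩
  obtain ⟨⟨a, ha⟩, za⟩ := key α hα c1
  obtain ⟨⟨b, hb⟩, zb⟩ := key β hβ (by
    rw [e2, ci_add_left, ci_add_left, ci_eq_zero_symm o2.1, hβ.ci_self, ci_eq_zero_symm o1]; simp)
  obtain ⟨⟨c, hc⟩, zc⟩ := key γ hγ (by
    rw [e2, ci_add_left, ci_add_left, ci_eq_zero_symm o2.2, hγ.ci_self, o1]; simp)
  have d := congrFun e2 1
  have z := h.invZ_v hε hε1
  have hN := h.card_eq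
  rw [hH] at hN
  rw [e2, invZ_add, invZ_add, hN, hH] at z
  rw [h.v_one hε, Pi.add_apply, Pi.add_apply, ha, hb, hc] at d
  rw [ha] at za
  rw [hb] at zb
  rw [hc] at zc
  generalize hn : C1[t].index = N at *
  have hN0 : (N : ℂ) ≠ 0 := hn ▸ h.index_ne_zero
  have d' : a + b + c = -1 := by
    have : ((a + b + c : ℤ) : ℂ) = (-1 : ℤ) := by push_cast; linear_combination -d / 4
    exact_mod_cast this
  have m : (N : ℤ) * ((1 + 2 * a) * (1 + 2 * b) * (1 + 2 * c)) =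
      (2 * (1 + 2 * a) - 1) * (2 * (1 + 2 * b) - 1) * (2 * (1 + 2 * c) - 1) := by
    have : (N : ℂ) * ((1 + 2 * a) * (1 + 2 * b) * (1 + 2 * c)) =
        (2 * (1 + 2 * a) - 1) * (2 * (1 + 2 * b) - 1) * (2 * (1 + 2 * c) - 1) := by
      refine mul_left_cancel₀ (mul_ne_zero (by norm_num : (8 : ℂ) ≠ 0) hN0) ?_
      push_cast at z
      linear_combination (1 + 4 * a) * (1 + 4 * b) * (1 + 4 * c) * z -
        (1 + 4 * b) * (1 + 4 * c) * za - (1 + 4 * a) * (1 + 4 * c) * zb -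
        (1 + 4 * a) * (1 + 4 * b) * zc - (N : ℂ) ^ 2 * d
    exact_mod_cast this
  have hlt : (N : ℤ) < 18 := by
    by_cases h1 : 0 ≤ a
    · exact lt_eighteen (by omega) (by omega) (by omega) m
    by_cases h2 : 0 ≤ b
    · exact lt_eighteen (x := 1 + 2 * b) (y := 1 + 2 * a) (z := 1 + 2 * c) (by omega) (by omega)
        (by omega) (by linear_combination m)
    · exact lt_eighteen (x := 1 + 2 * c) (y := 1 + 2 * a) (z := 1 + 2 * b) (by omega) (by omega)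
        (by omega) (by linear_combination m)
  have hodd : Odd (N : ℤ) := by
    refine Int.Odd.of_mul_left (n := (1 + 2 * a) * (1 + 2 * b) * (1 + 2 * c)) ?_
    rw [m]
    exact (Odd.mul ⟨2 * a, by ring⟩ ⟨2 * b, by ring⟩).mul ⟨2 * c, by ring⟩
  have hns : ∀ q k : ℕ, q.Prime → N ≠ q ^ k := fun q k hq e => by
    have : Group.IsSolvable G := burnside_paqb Nat.prime_two hq fun r hr hd => by
      rw [hN, e, show 2 * 2 = 2 ^ 2 by norm_num] at hd
      exact ((Nat.Prime.dvd_mul hr).1 hd).imp (fun h => Nat.prime_eq_prime_of_dvd_pow hr Nat.prime_two h)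
        fun h => Nat.prime_eq_prime_of_dvd_pow hr hq h
    exact hG ⟨⟨IsSimpleGroup.comm_iff_isSolvable.2 this⟩⟩
  have h3 := hns 3 0 (by norm_num)
  have h4 := hns 3 1 (by norm_num)
  have h5 := hns 5 1 (by norm_num)
  have h6 := hns 7 1 (by norm_num)
  have h7 := hns 3 2 (by norm_num)
  have h8 := hns 11 1 (by norm_num)
  have h9 := hns 13 1 (by norm_num)
  have h10 := hns 17 1 (by norm_num)
  obtain ⟨j, hj⟩ := hodd
  omega

theorem exists_steinberg (h : BSW H t) (hl : IsIrrCharacter H l) (hr : conjFun l ≠ l) :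
    ∃ (χ β : G → ℂ) (k : ℤ), IsSIrr G χ ∧ IsSIrr G β ∧ ⟪χ, β⟫ = 0 ∧ ⟪χ, fun _ => 1⟫ = 0 ∧
      ⟪β, fun _ => 1⟫ = 0 ∧ (∀ y, InX H y → χ y = 1) ∧ (∀ y, ¬ InX H y → β y = -1 - χ y) ∧
      (∀ y, ∃ n : ℤ, χ y = n) ∧ (k = 1 ∨ k = -1) ∧ χ 1 = 1 + 2 * Nat.card H * k ∧
      (C1[t].index : ℤ) = (1 + 2 * Nat.card H * k) * (1 + Nat.card H * k) := by
  classical
  obtain ⟨χ, β, hχ, hβ, o, e, hc⟩ := h.exists_common hl hr
  have hl1 : l ≠ fun _ => 1 := fun e => hr (by rw [e]; ext; simp)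
  have p1 := sirr_perp_one hχ (h.ci_one_v hl hl1) (by rw [hc l hl hl1]; exact one_ne_zero)
  have p2 := sirr_perp_one hβ (h.ci_one_v hl hl1)
    (by rw [e, ci_add_left, o, hβ.ci_self, zero_add]; exact one_ne_zero)
  have h1 : ∀ y ∈ H, y ≠ 1 → χ y = 1 := fun y hy hy1 => by
    have hy' : (⟨y, hy⟩ : H) ≠ 1 := fun e => hy1 (Subtype.ext_iff.1 e)
    have s1 := h.apply_eq hχ.isClassFunction p1 hy'
    have s2 := h.sum_erase hy'
    rw [Finset.sum_congr rfl fun μ hμ => by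
      rw [← ci_conj_symm, hc μ (mem_Irr.1 (Finset.mem_erase.1 hμ).2) (Finset.mem_erase.1 hμ).1,
        map_one, one_mul], s2] at s1
    simpa using s1
  have h2 : ∀ y, ¬ InX H y → β y = -1 - χ y := fun y hy => by
    have := h.v_apply_of_not hl hy
    rw [e, Pi.add_apply] at this
    linear_combination this
  obtain ⟨k, hk⟩ := h.degree_eq_of_one hχ.virt h1
  have hβ1 := h2 1 fun e => e.1 rfl
  have m : (C1[t].index : ℤ) * k ^ 2 = (1 + 2 * Nat.card H * k) * (1 + Nat.card H * k) := by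
    have z := h.invZ_v hl hl1
    have z1 := h.invZ_sirr hχ
    have z2 := h.invZ_sirr hβ
    have b : β t ^ 2 = 4 := by
      have := h.v_t hl
      rw [e, Pi.add_apply, h1 t h.mem h.ne] at this
      rcases h.irr_t hl with f | f <;> rw [f] at this
      · rw [show β t = -2 by linear_combination this]; norm_num
      · rw [show β t = 2 by linear_combination this]; norm_num
    rw [e, invZ_add, h.card_eq] at z
    rw [h1 t h.mem h.ne, hk] at z1
    rw [hβ1, hk, b] at z2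
    have : (C1[t].index : ℂ) * k ^ 2 = (1 + 2 * Nat.card H * k) * (1 + Nat.card H * k) := by
      refine mul_left_cancel₀ (mul_ne_zero (mul_ne_zero (by norm_num : (4 : ℂ) ≠ 0)
        (pow_ne_zero 2 (card_ne_zero_complex H))) h.index_ne_zero) ?_
      push_cast at z
      linear_combination (1 + 2 * Nat.card H * k) * (2 + 2 * Nat.card H * k) * z -
        (2 + 2 * Nat.card H * k) * z1 + (1 + 2 * Nat.card H * k) * z2
    exact_mod_cast this
  have hk1 : k = 1 ∨ k = -1 := Int.isUnit_iff.1 (isUnit_of_dvd_one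
    ⟨C1[t].index * k - 3 * Nat.card H - 2 * Nat.card H ^ 2 * k, by linear_combination -m⟩)
  refine ⟨χ, β, k, hχ, hβ, o, p1, p2, fun y hy => ?_, h2, fun y => ?_, hk1, hk, ?_⟩
  · obtain ⟨z, hz, hz1, hc⟩ := hy.exists_isConj
    rw [← hχ.isClassFunction.eq_of_isConj hc, h1 z hz hz1]
  · refine exists_int_of_forall_ringEquiv (hχ.virt.isIntegral y) fun σ => ?_
    have hσ := hχ.map_ringHom (σ : ℂ →+* ℂ)
    have a1 : ⟪fun g => (σ : ℂ →+* ℂ) (χ g), fun _ => 1⟫ = 0 := by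
      have := ci_map_ringHom (σ : ℂ →+* ℂ) χ virt_one
      simpa [p1] using this
    have a2 : ⟪fun g => (σ : ℂ →+* ℂ) (χ g), χ + β⟫ = 1 := by
      rw [← e, bswV, ci_sub_right, a1, sub_zero]
      exact h.ci_phi_of_one hl hl1 hσ.isClassFunction fun y hy hy1 => by simp [h1 y hy hy1]
    rcases ci_cases_of_add hσ.virt (by rw [hσ.nsq]; norm_num) hχ hβ a2 with ⟨b, -⟩ | ⟨-, b⟩
    · exact congrFun (hσ.eq_of_ci_eq_one hχ b) y
    · have := congrFun (hσ.eq_of_ci_eq_one hβ b) 1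
      rw [hβ1, hk] at this
      simp only [map_add, map_one, map_mul, map_ofNat, map_natCast, map_intCast] at this
      have : ((1 + 2 * Nat.card H * k : ℤ) : ℂ) = (-1 - (1 + 2 * Nat.card H * k) : ℤ) := by
        push_cast; exact this
      have := Int.cast_injective this
      omega
  · rw [← m]; rcases hk1 with rfl | rfl <;> simp

end BSW

end Cfsg.Agent.Cls
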