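import Cfsg.Agent.Cls.BSW3

/-! The Brauer–Suzuki–Wall theorem, part 4: the unipotent elements. -/

set_option autoImplicit false
set_option linter.unusedSectionVars false
set_option linter.unusedVariables false

namespace Cfsg.Agent.Cls

open Cfsg Subgroup Cfsg.Agent.GT Cfsg.Agent.Char
open scoped ComplexConjugate

universe u

theorem exists_conj_mem_of_not_dvd_index {G : Type u} [Group G] [Finite G] {K : Subgroup G}
    {r : ℕ} (hr : r.Prime) {z : G} (hz : orderOf z = r) (h : ¬ r ∣ K.index) :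
    ∃ g : G, g⁻¹ * z * g ∈ K := by
  have := Fact.mk hr
  have hp : IsPGroup r (zpowers z) := IsPGroup.of_card (n := 1) (by rw [Nat.card_zpowers, hz, pow_one])
  obtain ⟨x, hx⟩ := hp.nonempty_fixed_point_of_prime_not_dvd_card (G ⧸ K) h
  obtain ⟨g, rfl⟩ := QuotientGroup.mk_surjective x
  have h1 : ((z * g : G) : G ⧸ K) = g := hx ⟨z, mem_zpowers z⟩
  refine ⟨g, ?_⟩
  have := QuotientGroup.eq.1 h1.symm
  rwa [← mul_assoc] at this

theorem card_filter_isConj {G : Type u} [Group G] [Fintype G] (g : G)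
    [DecidablePred (IsConj g ·)] : (Finset.univ.filter (IsConj g ·)).card = C1[g].index := by
  have := sum_ite_isConj g
  rw [Finset.sum_boole] at this
  exact_mod_cast this

theorem sirr_isIntegral {G : Type u} [Group G] [Finite G] {γ : G → ℂ} (hγ : IsSIrr G γ) (g : G) :
    IsIntegral ℤ ((C1[g].index : ℂ) * γ g / γ 1) := by
  rcases hγ with hγ | hγ
  · exact hγ.isIntegral_index_mul_div g
  · have := hγ.isIntegral_index_mul_div g
    rwa [Pi.neg_apply, Pi.neg_apply, mul_neg, neg_div_neg_eq] at this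

theorem sirr_dvd {G : Type u} [Group G] [Finite G] {γ : G → ℂ} (hγ : IsSIrr G γ) {g : G}
    {a b : ℤ} (ha : γ g = a) (hb : γ 1 = b) : b ∣ C1[g].index * a := by
  have h0 := hγ.apply_one_ne_zero
  refine int_dvd_of_isIntegral (sirr_isIntegral hγ g) (fun e => h0 (by rw [hb, e]; simp)) ?_
  rw [← hb, mul_div_cancel₀ _ h0, ha]; push_cast; rfl

theorem sirr_column {G : Type u} [Group G] [Fintype G] {χ β : G → ℂ} (hχ : IsSIrr G χ)
    (hβ : IsSIrr G β) (o1 : ⟪χ, β⟫ = 0) (o2 : ⟪χ, fun _ => 1⟫ = 0) (o3 : ⟪β, fun _ => 1⟫ = 0)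
    (g : G) : 1 + ‖χ g‖ ^ 2 + ‖β g‖ ^ 2 ≤ Nat.card C1[g] := by
  classical
  obtain ⟨a, χ0, ha, hχ0, rfl⟩ := hχ.exists_sign
  obtain ⟨b, β0, hb, hβ0, rfl⟩ := hβ.exists_sign
  have ha0 : (a : ℂ) ≠ 0 := by rcases ha with rfl | rfl <;> simp
  have hb0 : (b : ℂ) ≠ 0 := by rcases hb with rfl | rfl <;> simp
  have n1 : χ0 ≠ β0 := by
    rintro rfl
    rw [ci_smul_left, ci_smul_right, hχ0.ci_self] at o1
    simp [ha0, hb0] at o1
  have n2 : (fun _ => 1) ≠ χ0 := by
    rintro rfl
    rw [ci_smul_left, ci_one_one] at o2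
    exact ha0 (by simpa using o2)
  have n3 : (fun _ => 1) ≠ β0 := by
    rintro rfl
    rw [ci_smul_left, ci_one_one] at o3
    exact hb0 (by simpa using o3)
  have e1 : ‖((a : ℂ) • χ0) g‖ = ‖χ0 g‖ := by rcases ha with rfl | rfl <;> simp
  have e2 : ‖((b : ℂ) • β0) g‖ = ‖β0 g‖ := by rcases hb with rfl | rfl <;> simp
  rw [← sum_irr_norm_sq, e1, e2]
  refine le_trans (le_of_eq ?_) (Finset.sum_le_sum_of_subset_of_nonneg
    (s := {fun _ => 1, χ0, β0}) (fun γ hγ => ?_) fun _ _ _ => by positivity)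
  · rw [Finset.sum_insert (by simp [n2, n3]), Finset.sum_pair n1]; simp [add_assoc]
  · simp only [Finset.mem_insert, Finset.mem_singleton] at hγ
    rcases hγ with rfl | rfl | rfl
    exacts [mem_Irr.2 isIrrCharacter_one, mem_Irr.2 hχ0, mem_Irr.2 hβ0]

/-- The information about the elements of order dividing `q`. -/
structure BSWLoc (G : Type u) [Group G] (q : ℕ) : Prop where
  odd : Odd q
  three_le : 3 ≤ q
  card : 2 * Nat.card G + q = q ^ 3
  cent : ∀ y : G, y ≠ 1 → y ^ q = 1 → Nat.card C1[y] = q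
  three : ∀ a b c : G, a ≠ 1 → a ^ q = 1 → b ≠ 1 → b ^ q = 1 → c ≠ 1 → c ^ q = 1 →
    IsConj a b ∨ IsConj a c ∨ IsConj b c
  count : Nat.card {y : G // y ≠ 1 ∧ y ^ q = 1} + 1 = q ^ 2

namespace BSW

variable {G : Type u} [Group G] [Fintype G] {H : Subgroup G} [Fintype H] {t : G} {l : H → ℂ}

theorem two_le_card (h : BSW H t) : 2 ≤ Nat.card H :=
  Finite.one_lt_card_iff_nontrivial.2 ⟨⟨⟨t, h.mem⟩, 1, fun e => h.ne (Subtype.ext_iff.1 e)⟩⟩

theorem coprime_cent (h : BSW H t) (hc : (2 * Nat.card H).Coprime C1[t].index) {y : G}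
    (hy1 : y ≠ 1) (hy : ¬ InX H y) : (Nat.card C1[y]).Coprime (2 * Nat.card H) := by
  refine Nat.coprime_of_dvd fun r hr h1 h2 => ?_
  have := Fact.mk hr
  obtain ⟨z, hz⟩ := exists_prime_orderOf_dvd_card' r h1
  rw [← orderOf_coe] at hz
  obtain ⟨g, hg⟩ := exists_conj_mem_of_not_dvd_index (K := C1[t]) hr hz fun e =>
    hr.one_lt.ne' (Nat.eq_one_of_dvd_coprimes hc h2 e)
  have hz1 : (z : G) ≠ 1 := fun e => hr.one_lt.ne' (by rw [← hz, e, orderOf_one])
  refine hy (h.inX_of_comm (z := z) ((h.inX_of_cent hg fun e => hz1 ?_).of_isConj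
    (isConj_iff.2 ⟨g, by group⟩)) (mem_cent1.1 z.2).symm hy1)
  rwa [show g⁻¹ * z * g = g⁻¹ * z * g⁻¹⁻¹ by rw [inv_inv], conj_eq_one_iff] at e

set_option maxHeartbeats 800000 in
theorem exists_loc (h : BSW H t) (hl : IsIrrCharacter H l) (hr : conjFun l ≠ l) :
    ∃ q, BSWLoc G q ∧ (q = 2 * Nat.card H + 1 ∨ q + 1 = 2 * Nat.card H) := by
  classical
  obtain ⟨χ, β, k, hχ, hβ, o1, o2, o3, v1, v2, v3, hk, d, m⟩ := h.exists_steinberg hl hr
  have hG := h.card_eq
  have h2 := h.two_le_card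
  generalize hn : Nat.card H = n at *
  generalize hN : C1[t].index = N at *
  set x : ℤ := 1 + 2 * n * k with hx
  set W : ℤ := 1 + n * k with hW
  have hxW : x = 2 * W - 1 := by rw [hx, hW]; ring
  have hkk : k * k = 1 := by rcases hk with rfl | rfl <;> simp
  have hc : (2 * n).Coprime N := by
    rw [← Nat.isCoprime_iff_coprime, m]
    push_cast
    refine IsCoprime.mul_right ⟨-k, 1, by rw [hx]; ring⟩ (IsCoprime.mul_left ?_ ⟨-k, 1, by rw [hW]; ring⟩)
    obtain ⟨j, hj⟩ : 2 ∣ n := by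
      rw [← hn, ← orderOf_eq_prime (show t ^ 2 = 1 by rw [pow_two, h.sq]) h.ne]
      exact H.orderOf_dvd_natCard h.mem
    exact ⟨-j * k, 1, by rw [hW, hj]; push_cast; ring⟩
  have d' : χ 1 = x := by rw [d, hx]; push_cast; ring
  have hx0 : x ≠ 0 := by omega
  have hW0 : W ≠ 0 := by rw [hW]; rcases hk with rfl | rfl <;> omega
  have key : ∀ y, y ≠ 1 → ¬ InX H y → (χ y = 0 ∧ (Nat.card C1[y] : ℤ) ∣ x) ∨
      (χ y = -1 ∧ (Nat.card C1[y] : ℤ) ∣ W) := fun y hy1 hy => by
    obtain ⟨z, hz⟩ := v3 y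
    have c0 := Nat.isCoprime_iff_coprime.2 (hn ▸ h.coprime_cent (by rwa [hn, hN]) hy1 hy)
    have c1 := C1[y].card_mul_index
    rw [hG] at c1
    have c2 : (Nat.card C1[y] : ℤ) * C1[y].index = 2 * n * (x * W) := by rw [← m]; exact_mod_cast c1
    obtain ⟨r, hr⟩ := sirr_dvd hχ hz d'
    obtain ⟨s, hs⟩ := sirr_dvd hβ (g := y) (a := -1 - z) (b := -(2 * W))
      (by rw [v2 y hy, hz]; push_cast; rfl)
      (by rw [v2 1 fun e => e.1 rfl, d', hxW]; push_cast; ring)
    have col := sirr_column hχ hβ o1 o2 o3 y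
    rw [v2 y hy, hz, show (-1 - z : ℂ) = ((-1 - z : ℤ) : ℂ) by push_cast; rfl, Complex.norm_intCast,
      Complex.norm_intCast, sq_abs, sq_abs] at col
    generalize Nat.card C1[y] = c at *
    have col' : 1 + z ^ 2 + (-1 - z) ^ 2 ≤ c := by exact_mod_cast col
    push_cast at c0
    have a1 : (c : ℤ) ∣ W * z := c0.dvd_of_dvd_mul_left ⟨r, mul_left_cancel₀ hx0 (by
      linear_combination c * hr - z * c2)⟩
    have a2 : (c : ℤ) ∣ x * (1 + z) := c0.dvd_of_dvd_mul_left ⟨2 * s, mul_left_cancel₀ hW0 (by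
      linear_combination -c * hs - (1 + z) * c2)⟩
    have a3 : (c : ℤ) ∣ z * (1 + z) := by
      have := (a1.mul_right (2 * (1 + z))).sub (a2.mul_right z)
      rwa [show W * z * (2 * (1 + z)) - x * (1 + z) * z = z * (1 + z) by rw [hxW]; ring] at this
    have a4 : z * (1 + z) = 0 := by
      by_contra hne
      have := Int.le_of_dvd (abs_pos.2 hne) ((dvd_abs _ _).2 a3)
      have h3 : |z * (1 + z)| ≤ z ^ 2 + (-1 - z) ^ 2 := abs_le.2 ⟨by nlinarith, by nlinarith⟩
      omega
    rcases mul_eq_zero.1 a4 with e | e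
    · exact Or.inl ⟨by rw [hz, e]; simp, by simpa [e] using a2⟩
    · have e' : z = -1 := by omega
      exact Or.inr ⟨by rw [hz, e']; simp, by simpa [e'] using a1⟩
  set q := x.natAbs with hq
  have hq' : (q : ℤ) = k * x := by
    rw [hq, Int.natCast_natAbs, hx]
    rcases hk with rfl | rfl
    · rw [abs_of_pos (by omega)]; ring
    · rw [abs_of_neg (by omega)]; ring
  have hA : ∀ y, (y ≠ 1 ∧ y ^ q = 1) ↔ y ≠ 1 ∧ ¬ InX H y ∧ χ y = 0 := fun y => by
    refine ⟨fun ⟨hy1, hy⟩ => ?_, fun ⟨hy1, hy, hy0⟩ => ⟨hy1, ?_⟩⟩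
    · obtain ⟨r, hr, hd⟩ := Nat.exists_prime_and_dvd (fun e => hy1 (orderOf_eq_one_iff.1 e))
      have hr' := Nat.prime_iff_prime_int.1 hr
      have a1 : (r : ℤ) ∣ x := Int.natCast_dvd.2 (hd.trans (orderOf_dvd_of_pow_eq_one hy))
      have a2 : ¬ InX H y := fun e => by
        obtain ⟨z, hz, -, hc⟩ := e.exists_isConj
        have a3 : r ∣ n := by
          rw [← hn]
          obtain ⟨c, rfl⟩ := isConj_iff.1 hc
          rw [← MulAut.conj_apply, MulEquiv.orderOf_eq] at hd
          exact hd.trans (H.orderOf_dvd_natCard hz)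
        have := a1.sub ((Int.natCast_dvd_natCast.2 a3).mul_right (2 * k))
        rw [show x - n * (2 * k) = 1 by rw [hx]; ring] at this
        exact hr'.not_dvd_one this
      refine ⟨hy1, a2, ((key y hy1 a2).resolve_right fun e => ?_).1⟩
      have a3 : (r : ℤ) ∣ W := (Int.natCast_dvd_natCast.2
        (hd.trans (C1[y].orderOf_dvd_natCard (self_mem_cent1 y)))).trans e.2
      have := (a3.mul_left 2).sub a1
      rw [show 2 * W - x = 1 by rw [hxW]; ring] at this
      exact hr'.not_dvd_one this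
    · have := ((key y hy1 hy).resolve_right fun e => by rw [e.1] at hy0; simp at hy0).2
      exact orderOf_dvd_iff_pow_eq_one.1
        ((C1[y].orderOf_dvd_natCard (self_mem_cent1 y)).trans (Int.natCast_dvd.1 this))
  set A := Finset.univ.filter fun y : G => y ≠ 1 ∧ y ^ q = 1 with hAdef
  have cA : A.card + 1 = q ^ 2 := by
    let θ : H → ℂ := fun y => 1 - if y = 1 then 1 else 0
    have hθ : θ 1 = 0 := by simp [θ]
    have s1 : ∀ y : G, 1 + χ y - indFun H θ y =
        (if y = 1 then 1 + (x : ℂ) else 0) + if y ≠ 1 ∧ y ^ q = 1 then 1 else 0 := fun y => by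
      by_cases hy1 : y = 1
      · rw [ind_zero hθ fun e => e.1 hy1, hy1, d']; simp
      by_cases hy : InX H y
      · obtain ⟨z, hz, hz1, hc⟩ := hy.exists_isConj
        have hz' : (⟨z, hz⟩ : H) ≠ 1 := fun e => hz1 (Subtype.ext_iff.1 e)
        rw [if_neg hy1, if_neg fun e => ((hA y).1 e).2.1 hy, v1 y hy,
          ← (isClassFunction_indFun H θ).eq_of_isConj hc, h.ind_apply hθ ⟨z, hz⟩]
        simp only [θ, if_neg hz', if_neg (inv_ne_one.2 hz')]
        ring
      rw [ind_zero hθ hy, if_neg hy1]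
      rcases key y hy1 hy with e | e
      · rw [if_pos ((hA y).2 ⟨hy1, hy, e.1⟩), e.1]; simp
      · rw [if_neg fun e' => by have := ((hA y).1 e').2.2; rw [e.1] at this; simp at this, e.1]
        simp
    have s2 := Finset.sum_congr (rfl : (Finset.univ : Finset G) = _) fun y _ => s1 y
    have s3 := card_mul_ci χ fun _ => 1
    have s4 := card_mul_ci (indFun H θ) fun _ => 1
    have s5 := card_mul_ci θ fun _ => 1
    rw [ci_indFun_left H θ (isClassFunction_const 1)] at s4
    rw [o2] at s3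
    simp only [map_one, mul_one] at s3 s4 s5
    simp only [θ, Finset.sum_sub_distrib, Finset.sum_ite_eq', Finset.mem_univ, if_true,
      Finset.sum_const, Finset.card_univ, ← Nat.card_eq_fintype_card, nsmul_eq_mul, mul_one] at s5
    rw [Finset.sum_sub_distrib, Finset.sum_add_distrib, Finset.sum_add_distrib, ← s3, ← s4,
      Finset.sum_ite_eq', Finset.sum_boole, ← hAdef] at s2
    simp only [Finset.sum_const, Finset.card_univ, ← Nat.card_eq_fintype_card, nsmul_eq_mul,
      mul_one, Finset.mem_univ, if_true, hG] at s2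
    rw [hn] at s5
    have s6 : ((A.card + 1 : ℤ) : ℂ) = ((2 * N - x : ℤ) : ℂ) := by
      push_cast at s2 ⊢
      linear_combination -s2 - 2 * N * s5
    have s7 := Int.cast_injective s6
    have : ((A.card + 1 : ℕ) : ℤ) = ((q ^ 2 : ℕ) : ℤ) := by
      push_cast
      rw [s7, hq', m]
      linear_combination (-x) * hxW - x ^ 2 * hkk
    exact_mod_cast this
  have cG : 2 * Nat.card G + q = q ^ 3 := by
    have : ((2 * Nat.card G + q : ℕ) : ℤ) = ((q ^ 3 : ℕ) : ℤ) := by
      rw [hG]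
      push_cast
      rw [hq', m, hxW, hW]
      rcases hk with rfl | rfl <;> ring
    exact_mod_cast this
  have hq3 : 3 ≤ q := by rw [hx] at hq'; rcases hk with rfl | rfl <;> omega
  have hqo : Odd q := by
    rw [hq, Int.natAbs_odd, hxW]; exact ⟨W - 1, by ring⟩
  have sub : ∀ y, y ≠ 1 → y ^ q = 1 → Finset.univ.filter (IsConj y ·) ⊆ A := fun y hy1 hy z hz => by
    obtain ⟨c, rfl⟩ := isConj_iff.1 (Finset.mem_filter.1 hz).2
    exact Finset.mem_filter.2 ⟨Finset.mem_univ _, fun e => hy1 (conj_eq_one_iff.1 e),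
      by rw [conj_pow, hy]; simp⟩
  have cent : ∀ y : G, y ≠ 1 → y ^ q = 1 → Nat.card C1[y] = q := fun y hy1 hy => by
    obtain ⟨-, a1, a2⟩ := (hA y).1 ⟨hy1, hy⟩
    obtain ⟨j, hj⟩ : Nat.card C1[y] ∣ q := Int.natCast_dvd.1
      ((key y hy1 a1).resolve_right fun e => by rw [e.1] at a2; simp at a2).2
    have a3 := Finset.card_le_card (sub y hy1 hy)
    rw [card_filter_isConj] at a3
    have a4 := C1[y].card_mul_index
    have a5 : j % 2 = 1 := Nat.odd_iff.1 (Nat.Odd.of_mul_right (hj ▸ hqo))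
    generalize Nat.card C1[y] = c at *
    generalize C1[y].index = i at *
    have a6 : j ≤ 2 := by
      by_contra hj2
      have b1 : 3 * c ≤ q := by rw [hj, mul_comm]; exact Nat.mul_le_mul_left _ (by omega)
      have b2 : q * (A.card + 1) = q ^ 3 := by rw [cA]; ring
      have b3 : 0 < A.card := by nlinarith
      have b4 : c * i ≤ c * A.card := Nat.mul_le_mul_left _ a3
      have b5 : 3 * c * A.card ≤ q * A.card := Nat.mul_le_mul_right _ b1
      nlinarith
    rw [hj, show j = 1 by omega, mul_one]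
  refine ⟨q, ⟨hqo, hq3, cG, cent, fun a b c ha ha' hb hb' hc hc' => ?_, ?_⟩, ?_⟩
  · by_contra hno
    simp only [not_or] at hno
    have dj : ∀ a b : G, ¬ IsConj a b →
        Disjoint (Finset.univ.filter (IsConj a ·)) (Finset.univ.filter (IsConj b ·)) :=
      fun a b h => Finset.disjoint_filter.2 fun z _ h1 h2 => h (h1.trans h2.symm)
    have a1 := Finset.card_le_card (Finset.union_subset (Finset.union_subset (sub a ha ha')
      (sub b hb hb')) (sub c hc hc'))
    rw [Finset.card_union_of_disjoint (Finset.disjoint_union_left.2 ⟨dj _ _ hno.2.1, dj _ _ hno.2.2⟩),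
      Finset.card_union_of_disjoint (dj _ _ hno.1), card_filter_isConj, card_filter_isConj,
      card_filter_isConj] at a1
    have a2 : ∀ y : G, y ≠ 1 → y ^ q = 1 → 2 * C1[y].index = A.card := fun y hy1 hy => by
      have a4 := C1[y].card_mul_index
      rw [cent y hy1 hy] at a4
      refine Nat.eq_of_mul_eq_mul_left (show 0 < q by omega) ?_
      have b2 : q * (A.card + 1) = q ^ 3 := by rw [cA]; ring
      nlinarith
    have := a2 a ha ha'
    have := a2 b hb hb'
    have := a2 c hc hc'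
    have : 0 < A.card := by nlinarith
    omega
  · rw [← cA, Nat.card_eq_fintype_card, Fintype.card_subtype]
  · rw [hx] at hq'
    rcases hk with rfl | rfl
    · left; omega
    · right; omega

end BSW

end Cfsg.Agent.Cls
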