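import Cfsg.Agent.Cls.TwoGroups
import Cfsg.Agent.BG.S03c
import Cfsg.Agent.GT.Constt
import Cfsg.Prelude.Def_LieExceptional

/-! Frobenius complements have non-trivial centre; CN-groups (Gorenstein, chapter 14). -/

set_option autoImplicit false
set_option linter.unusedSectionVars false
set_option linter.unusedVariables false

namespace Cfsg.Agent.Cls

open Subgroup Cfsg.Agent.GT
open scoped commutatorElement

universe u v

variable {G : Type u} [Group G] [Finite G] {p q : ℕ} {A B E H K L M P Q S T : Subgroup G}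

/-- a fixed point free involution inverts -/
theorem conj_eq_inv_of_fpf {t : G} (ht : t ∈ N[K]) (ht2 : t ^ 2 = 1) (h : K ⊓ C1[t] = ⊥) {x : G}
    (hx : x ∈ K) : t * x * t⁻¹ = x⁻¹ := by
  let f : K → K := fun y => ⟨y⁻¹ * (t * y * t⁻¹), mul_mem (inv_mem y.2) (conj_mem_of_mem_norm ht y.2)⟩
  have hf : Function.Injective f := by
    intro y z e
    have e' : (y : G)⁻¹ * (t * y * t⁻¹) = (z : G)⁻¹ * (t * z * t⁻¹) := congrArg Subtype.val e
    have h1 : (z : G) * (y : G)⁻¹ ∈ K ⊓ C1[t] := mem_inf.2 ⟨mul_mem z.2 (inv_mem y.2), by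
      rw [mem_cent1]
      calc (z : G) * (y : G)⁻¹ * t = z * ((y : G)⁻¹ * (t * y * t⁻¹)) * (t * (y : G)⁻¹) := by group
        _ = _ := by rw [e']; group⟩
    rw [h, mem_bot, mul_inv_eq_one] at h1
    exact Subtype.ext h1.symm
  obtain ⟨y, hy⟩ := (Finite.injective_iff_surjective.1 hf) ⟨x, hx⟩
  have e : (y : G)⁻¹ * (t * y * t⁻¹) = x := congrArg Subtype.val hy
  have htt : t * t = 1 := by rw [← sq, ht2]
  rw [← e]
  calc t * ((y : G)⁻¹ * (t * y * t⁻¹)) * t⁻¹ = t * (y : G)⁻¹ * t⁻¹ * ((t * t) * y * (t * t)⁻¹) := by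
        group
    _ = _ := by rw [htt]; group

theorem commutator_mem_cent_of_fpf {t g : G} (ht : t ∈ N[K]) (ht2 : t ^ 2 = 1) (h : K ⊓ C1[t] = ⊥)
    (hg : g ∈ N[K]) : ⁅g, t⁆ ∈ C[K] := by
  rw [mem_centralizer_iff]
  intro x hx
  have h1 := conj_eq_inv_of_fpf ht ht2 h (conj_mem_of_mem_norm (inv_mem hg)
    (conj_mem_of_mem_norm (inv_mem ht) hx))
  have h2 := conj_eq_inv_of_fpf ht ht2 h (conj_mem_of_mem_norm (inv_mem ht) hx)
  rw [commutatorElement_def]
  have h3 : g * t * g⁻¹ * t⁻¹ * x * (g * t * g⁻¹ * t⁻¹)⁻¹ = x := by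
    calc g * t * g⁻¹ * t⁻¹ * x * (g * t * g⁻¹ * t⁻¹)⁻¹
        = g * (t * (g⁻¹ * (t⁻¹ * x * t⁻¹⁻¹) * g⁻¹⁻¹) * t⁻¹) * g⁻¹ := by group
      _ = (t⁻¹ * x * t⁻¹⁻¹)⁻¹ := by rw [h1]; group
      _ = x := by rw [← h2]; group
  exact (mul_inv_eq_iff_eq_mul.1 h3).symm

theorem Semiregular_isCyclic (h : Semiregular K E) (hn : E ≤ N[K]) (hK : K ≠ ⊥) (hA : A ≤ E)
    (hc : IsMulCommutative A) : IsCyclic A :=
  (h.mono le_rfl hA).isCyclic_of_comm hc (hA.trans hn)
    (BG.semiregular_coprime (h.mono le_rfl hA) (hA.trans hn)) hK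

theorem Semiregular_isZGroup (h : Semiregular K E) (hn : E ≤ N[K]) (hK : K ≠ ⊥)
    (ho : Odd (Nat.card E)) : IsZGroup E := by
  refine PG.isZGroup_of_rankLE_one ho fun p hp => ?_
  by_contra h'
  obtain ⟨A, hA⟩ := PG.exists_pnElem_of_not_pRankLE hp h'
  exact PG.pnElem_two_not_isCyclic hp hA (Semiregular_isCyclic h hn hK hA.le hA.comm)

/-- A Frobenius complement has non-trivial centre. -/
theorem Semiregular_center_ne_bot (h : Semiregular K E) (hn : E ≤ N[K]) (hK : K ≠ ⊥)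
    (hE : E ≠ ⊥) : E ⊓ C[E] ≠ ⊥ := by
  rcases Nat.even_or_odd (Nat.card E) with he | ho
  · obtain ⟨t, ht, ht2⟩ := exists_mem_orderOf_eq Nat.prime_two he.two_dvd
    have ht1 : t ≠ 1 := by
      rintro rfl
      simp at ht2
    refine ne_bot_of_mem (mem_inf.2 ⟨ht, mem_centralizer_iff.2 fun g hg => ?_⟩) ht1
    have h1 := commutator_mem_cent_of_fpf (hn ht) (ht2 ▸ pow_orderOf_eq_one t) (h t ht ht1) (hn hg)
    rw [← commutatorElement_eq_one_iff_mul_comm]
    by_contra h2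
    apply hK
    rw [eq_bot_iff, ← h _ (der1_le E (commutator_mem_commutator hg ht)) h2]
    exact le_inf le_rfl (mem_cent_iff_le_cent1.1 h1)
  · have hZ := Semiregular_isZGroup h hn hK ho
    obtain ⟨R, hR, hRc, hco⟩ := Zgroup_exists_sdprod hZ
    have hR1 : R ≠ ⊥ := fun e =>
      (commutator_lt_of_solvable (zgroup_solvable hZ) hE).ne (hR.eq_left_iff.2 e)
    obtain ⟨X, hX, hXp⟩ := exists_le_card_prime hR1
    have hc := isMulCommutative_of_isCyclic (Zgroup_der1_cyclic hZ)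
    have hXn : X ≤ N[⁅E, E⁆] := hX.trans hR.right_norm
    have hco' := coprime_card_of_le hco le_rfl hX
    have hXE : X ≤ E := hX.trans hR.right_le
    have hD : ⁅⁅E, E⁆, X⁆ ≤ E := (commutator_le_of_le_norm_left hXn).trans (der1_le E)
    obtain ⟨r, hr, hrK⟩ := exists_prime_dvd_card hK
    obtain ⟨P, hP, hPn⟩ := coprime_exists_syl hr (Or.inr (zgroup_solvable hZ)) hn
      (BG.semiregular_coprime h hn)
    obtain ⟨V, s, hV, hVm, hs, hVe⟩ := exists_minNormal_elementary ((syl_ne_bot_iff hr hP).2 hrK) hPn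
      (solvable_of_isPGroup hr (syl_isPGroup hr hP))
    have hVK : V ≤ K := hV.trans hP.le
    have hXne := ne_bot_of_card_prime hXp
    have h1 := BG.semiregular_cent_compl hs hVe (le_norm_commutator hXn le_normalizer)
      (semiregular_of_prime hXp (coprime_comm_commutator_inf_cent hc hXn hco'))
      ((sup_le hD hXE).trans hVm.norm)
      (not_dvd_of_coprime (coprime_card_of_le (BG.semiregular_coprime h hn) hVK hD) hs
        (prime_dvd_card_of_isPGroup hs (isPGroup_of_elementary hVe) hVm.ne_bot))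
      ((h.mono hVK le_rfl).inf_cent hXE hXne)
    have h2 : ⁅⁅E, E⁆, X⁆ = ⊥ := by
      by_contra h3
      apply hVm.ne_bot
      rw [eq_bot_iff, ← (h.mono hVK le_rfl).inf_cent hD h3]
      exact le_inf le_rfl (le_cent_symm h1)
    refine ne_bot_of_le hXne (le_inf hXE ?_)
    nth_rewrite 1 [← hR.sup_eq]
    rw [cent_sup]
    exact le_inf (le_cent_iff_commutator_eq_bot'.2 h2)
      (hX.trans (isMulCommutative_iff_le_cent.1 (isMulCommutative_of_isCyclic hRc)))

theorem Frob_isFrobeniusComplement (h : Frob K E ⊤) : IsFrobeniusComplement E := by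
  refine ⟨h.compl_ne_bot, fun e => h.ker_ne_bot (h.sdprod.eq_right_iff.1 e), fun g hg => ?_⟩
  obtain ⟨a, ha, b, hb, rfl⟩ := h.sdprod.exists_mul (mem_top g)
  change E ⊓ cj[a * b] E = ⊥
  rw [mul_conj, conj_eq_self_of_mem hb, eq_bot_iff]
  rintro x ⟨hx, hx'⟩
  by_contra hx1
  have h1 : a⁻¹ * x * a ∈ E := mem_conj.1 hx'
  have h2 : a⁻¹ * x * a * x⁻¹ ∈ K ⊓ E := mem_inf.2 ⟨by
    rw [show a⁻¹ * x * a * x⁻¹ = a⁻¹ * (x * a * x⁻¹) by group]
    exact mul_mem (inv_mem ha) (conj_mem_of_le_norm h.sdprod.right_norm hx ha),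
    mul_mem h1 (inv_mem hx)⟩
  rw [h.sdprod.inf_eq, mem_bot] at h2
  have h3 : a = 1 := semiregular_iff.1 h.reg x hx hx1 a ha (by
    calc a * x = a * (a⁻¹ * x * a * x⁻¹) * x := by rw [h2, mul_one]
      _ = x * a := by group)
  exact hg (by rwa [h3, one_mul])

/-! ### CN-groups -/

theorem cn_cent1 (h : IsCNGroup G) {x : G} (hx : x ≠ 1) (hH : H ≤ C1[x]) : Group.IsNilpotent H :=
  isNilpotent_of_le (h x hx) hH

theorem cn_cent (h : IsCNGroup G) (hA : A ≠ ⊥) (hH : H ≤ C[A]) : Group.IsNilpotent H := by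
  obtain ⟨x, hx, hx1⟩ := exists_ne_one_of_ne_bot hA
  exact cn_cent1 h hx1 (hH.trans (cent_le_cent1 hx))

theorem cn_of_center (h : IsCNGroup G) (hH : H ⊓ C[H] ≠ ⊥) : Group.IsNilpotent H :=
  cn_cent h hH (le_cent_symm inf_le_right)

theorem cn_le_cent (h : IsCNGroup G) (hK : K ≠ ⊥) (hA : A ≤ C[K]) (hB : B ≤ C[K])
    (hc : (Nat.card A).Coprime (Nat.card B)) : A ≤ C[B] :=
  le_cent_of_nilpotent_of_coprime (cn_cent h hK le_rfl) hA hB hc

/-- In a CN-group, a group of coprime order centralising a non-trivial subgroup of a nilpotent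
group centralises all of it. -/
theorem cn_le_cent_of_nil (h : IsCNGroup G) (hK : Group.IsNilpotent K) (hne : K ⊓ C[A] ≠ ⊥)
    (hc : (Nat.card A).Coprime (Nat.card K)) : A ≤ C[K] := by
  have h1 : A ≤ C[K ⊓ C[K]] := cn_le_cent h hne (le_cent_symm inf_le_right)
    (inf_le_right.trans (cent_anti inf_le_left)) (coprime_card_of_le hc le_rfl inf_le_left)
  exact cn_le_cent h (center_ne_bot_of_nilpotent hK (ne_bot_of_le hne inf_le_left)) h1
    (le_cent_symm inf_le_right) hc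

theorem cn_compl_nilpotent (h : IsCNGroup G) (hr : Semiregular K E) (hn : E ≤ N[K]) (hK : K ≠ ⊥) :
    Group.IsNilpotent E := by
  by_cases hE : E = ⊥
  · subst hE
    infer_instance
  · exact cn_of_center h (Semiregular_center_ne_bot hr hn hK hE)

theorem cn_im_pgroup {G' : Type v} [Group G'] [Finite G'] (h : IsCNGroup G) (hp : p.Prime)
    {f : (⊤ : Subgroup G) →* G'} (hf : Function.Surjective f) (hk : IsPGroup p (kr f)) :
    IsCNGroup G' := by
  have hlift : ∀ (r : ℕ) (y : G'), PiNat {r} (orderOf y) →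
      ∃ x : G, f ⟨x, mem_top x⟩ = y ∧ PiNat {r} (orderOf x) := by
    intro r y hy
    obtain ⟨x, rfl⟩ := hf y
    refine ⟨constt {r} x, ?_, piNat_constt _ _⟩
    have h1 := constt_map f {r} x
    rw [constt_of_piNat hy] at h1
    rw [h1]
    congr 1
    exact Subtype.ext (constt_map (⊤ : Subgroup G).subtype {r} x)
  have hcent : ∀ x : G, (Nat.card (kr f)).Coprime (orderOf x) →
      im f C1[x] = C1[f ⟨x, mem_top x⟩] := fun x hx => by
    have := im_inf_cent1_of_coprime (f := f) le_rfl (mem_top x) (by rw [norm_top]; exact mem_top x) (by rwa [top_inf_eq])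
    rwa [top_inf_eq, im_dom_of_surj hf, top_inf_eq] at this
  have key : ∀ y : G', (orderOf y).Prime → Group.IsNilpotent C1[y] := by
    intro y hy
    have hy1 : y ≠ 1 := by
      rintro rfl
      exact Nat.not_prime_one (orderOf_one (G := G') ▸ hy)
    obtain ⟨x, rfl, hx⟩ := hlift _ y (piNat_single_self hy)
    have hx1 : x ≠ 1 := by
      rintro rfl
      exact hy1 (map_one f)
    by_cases hpy : orderOf (f ⟨x, mem_top x⟩) = p
    · rw [hpy] at hx
      by_cases hk1 : kr f = ⊥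
      · rw [← hcent x (by simp [hk1])]
        exact nilpotent_im (h x hx1)
      set D := pre f C1[f ⟨x, mem_top x⟩] with hD
      set X := pre f (zpowers (f ⟨x, mem_top x⟩)) with hX
      have hXp : IsPGroup p X := (isPiSubgroup_pre (isPi_of_isPGroup hp hk)
        (isPiSubgroup_zpowers_iff.2 (by rw [hpy]; exact piNat_single_self hp))).isPGroup hp
      have hDX : D ≤ N[X] := pre_norm (le_norm_of_cent (by rw [cent_zpowers]))
      have hkn : ∀ Y : Subgroup G, Y ≤ N[kr f] := fun Y => le_top.trans dom_le_norm_kr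
      obtain ⟨P, hP⟩ := exists_syl hp D
      have h1 : kr f ⊓ C[X] ≠ ⊥ := inf_cent_ne_bot_of_isPGroup hp hk hXp (hkn _) hk1
      have h2 : kr f ⊓ C[X] ⊓ C[P] ≠ ⊥ := inf_cent_ne_bot_of_isPGroup hp (hk.to_le inf_le_left)
        (syl_isPGroup hp hP) (le_norm_inf (hkn _) (le_norm_cent (hP.le.trans hDX))) h1
      have h3 : D ≤ C[kr f ⊓ C[X] ⊓ C[P]] := by
        refine le_of_forall_syl_le fun r hr _ => ?_
        by_cases hrp : r = p
        · subst hrp
          exact ⟨P, hP, le_cent_symm inf_le_right⟩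
        obtain ⟨R, hR⟩ := exists_syl hr D
        refine ⟨R, hR, fun y hy => ?_⟩
        have hyr : PiNat {p}ᶜ (orderOf y) := (hR.isPi.orderOf hy).single_mono hrp
        have h4 : f ⟨x, mem_top x⟩ ∈ im f C1[y] := by
          rw [hcent y ((isPi_of_isPGroup hp hk).piNat.coprime hyr), mem_cent1_comm]
          exact (mem_pre' (mem_top y)).1 (hR.le hy)
        obtain ⟨x', _, hx', e⟩ := mem_im.1 h4
        have hx'1 : x' ≠ 1 := by
          rintro rfl
          exact hy1 (e.symm.trans (map_one f))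
        have hx'X : x' ∈ X := (mem_pre' (mem_top x')).2 (e ▸ mem_zpowers _)
        have h5 : zpowers y ≤ C[kr f ⊓ C[X]] :=
          le_cent_of_nilpotent_of_coprime (h x' hx'1) (zpowers_le.2 (mem_cent1_comm.1 hx'))
            (inf_le_right.trans (cent_le_cent1 hx'X))
            ((isPiSubgroup_zpowers_iff.2 hyr).coprime' (isPi_of_isPGroup hp hk).inf_left)
        exact cent_anti inf_le_left (h5 (mem_zpowers y))
      rw [← im_pre_of_surj (X := C1[f ⟨x, mem_top x⟩]) hf]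
      exact nilpotent_im (cn_cent h h2 h3)
    · rw [← hcent x ((isPi_of_isPGroup hp hk).piNat.coprime (hx.single_mono hpy))]
      exact nilpotent_im (h x hx1)
  intro y hy
  obtain ⟨z, hz, hz'⟩ := exists_le_card_prime (zpowers_eq_bot.not.2 hy)
  obtain ⟨w, hw, hw1⟩ := exists_ne_one_of_ne_bot (ne_bot_of_card_prime hz')
  refine isNilpotent_of_le (key w ?_) ?_
  · rwa [← Nat.card_zpowers, ← eq_zpowers_of_card_prime hz' hw hw1]
  · rw [← cent_zpowers]
    exact cent_le_cent1 (hz hw)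

theorem cn_im_aux {G' : Type v} [Group G'] [Finite G'] (n : ℕ) :
    ∀ {G : Type u} [Group G] [Finite G] (f : (⊤ : Subgroup G) →* G'), Nat.card (kr f) = n →
      IsCNGroup G → Function.Surjective f → Group.IsSolvable (kr f) → IsCNGroup G' := by
  induction n using Nat.strong_induction_on with
  | _ n ih =>
  intro G _ _ f hn h hf hs
  by_cases hk : kr f = ⊥
  · exact cn_im_pgroup h Nat.prime_two hf (hk ▸ IsPGroup.of_bot)
  obtain ⟨M, p, hM, hMm, hp, hMe⟩ := exists_minNormal_elementary hk dom_le_norm_kr hs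
  obtain ⟨Q, _, _, g, hg, hgk⟩ := exists_quo' ⊤ M le_top hMm.norm
  have hQ := cn_im_pgroup h hp hg (hgk ▸ isPGroup_of_elementary hMe)
  have hle : g.ker ≤ f.ker := by
    rw [← kr_subgroupOf, ← kr_subgroupOf, hgk]
    exact subgroupOf_mono _ hM
  let f' : Q →* G' := g.liftOfSurjective hg ⟨f, hle⟩
  have hf' : ∀ x, f' (g x) = f x := fun x => by simp [f']
  have hk' : kr (f'.comp (⊤ : Subgroup Q).subtype) = im g (kr f) := by
    ext y
    obtain ⟨x, rfl⟩ := hg y
    rw [mem_kr' (mem_top _), mem_im_iff_of_le x.2 le_top (hgk ▸ hM), mem_kr' x.2]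
    simp [hf']
  refine ih _ ?_ (f'.comp (⊤ : Subgroup Q).subtype) rfl hQ ?_ (hk' ▸ solvable_im hs)
  · rw [hk', ← hn]
    exact card_im_lt le_top (by rw [hgk, inf_eq_right.2 hM]; exact hMm.ne_bot)
  · intro y
    obtain ⟨x, rfl⟩ := hf y
    exact ⟨⟨g x, mem_top _⟩, hf' x⟩

theorem cn_im {G' : Type v} [Group G'] [Finite G'] (h : IsCNGroup G)
    {f : (⊤ : Subgroup G) →* G'} (hf : Function.Surjective f) (hs : Group.IsSolvable (kr f)) :
    IsCNGroup G' :=
  cn_im_aux _ f rfl h hf hs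

theorem cn_semiregular_fittingHall (h : IsCNGroup G) (hE : Sdprod (fittingHallOf ⊤) E (⊤ : Subgroup G)) :
    Semiregular (fittingHallOf ⊤) E := by
  have hco : (Nat.card (fittingHallOf (⊤ : Subgroup G))).Coprime (Nat.card E) :=
    hE.relIndex ▸ fittingHallOf_coprime ⊤
  refine semiregular_of_card_prime fun X hX hXp => ?_
  by_contra hne
  have hn := fittingHallOf_nilpotent (⊤ : Subgroup G)
  have h1 := cn_le_cent_of_nil h hn hne (coprime_card_of_le hco le_rfl hX).symm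
  have hr : ¬ Nat.card X ∣ Nat.card (fittingHallOf (⊤ : Subgroup G)) :=
    not_dvd_of_coprime hco.symm hXp (card_dvd_of_le hX)
  obtain ⟨R, hR, hXR⟩ := exists_syl_ge hXp (isPGroup_of_card_eq_prime rfl) (le_top (a := X))
  have hRp := syl_isPGroup hXp hR
  have hXne := ne_bot_of_card_prime hXp
  have hcoR : ∀ Y : Subgroup G, Y ≤ R →
      (Nat.card Y).Coprime (Nat.card (fittingHallOf (⊤ : Subgroup G))) := fun Y hY =>
    (isPi_of_isPGroup hXp (hRp.to_le hY)).coprime ((isPiSubgroup_single_compl_iff hXp).2 hr)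
  have h2 : R ⊓ C[R] ≤ C[fittingHallOf ⊤] := cn_le_cent h hXne
    (inf_le_right.trans (cent_anti hXR)) (le_cent_symm h1) (hcoR _ inf_le_left)
  have h3 : R ≤ C[fittingHallOf ⊤] := cn_le_cent h
    (center_ne_bot_of_nilpotent (nilpotent_of_isPGroup hXp hRp) (ne_bot_of_le hXne hXR))
    (le_cent_symm inf_le_right) (le_cent_symm h2) (hcoR _ le_rfl)
  have h4 : (⊤ : Subgroup G) ≤ N[R] :=
    (le_norm_cent (self_le_norm_fittingHallOf ⊤)).trans (norm_le_norm_syl_of_nilpotent hXp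
      (cn_cent h (ne_bot_of_le hne inf_le_left) le_rfl) (hR.of_le h3 le_top))
  exact hr (card_dvd_of_le (hXR.trans (syl_le_fittingHallOf hXp hR h4)))

theorem cn_frob_of_normal_syl (h : IsCNGroup G) (hnn : ¬ Group.IsNilpotent G) (hp : p.Prime)
    (hP : IsPiHallOf {p} P ⊤) (hP1 : P ≠ ⊥) (hn : (⊤ : Subgroup G) ≤ N[P]) :
    ∃ E : Subgroup G, Frob (fittingHallOf ⊤) E ⊤ ∧ Group.IsNilpotent E := by
  obtain ⟨E, hE⟩ := (isPiHallOf_fittingHallOf (⊤ : Subgroup G)).exists_sdprod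
    (self_le_norm_fittingHallOf ⊤)
  have h1 := ne_bot_of_le hP1 (syl_le_fittingHallOf hp hP hn)
  have h2 := cn_semiregular_fittingHall h hE
  refine ⟨E, ⟨hE, h1, fun e => hnn ?_, h2⟩, cn_compl_nilpotent h h2 hE.right_norm h1⟩
  rw [← isNilpotent_top_iff, ← hE.eq_left_iff.2 e]
  exact fittingHallOf_nilpotent _

/-- nilpotent Frobenius complements -/
theorem nilpotent_compl_structure (hr : Semiregular K E) (hn : E ≤ N[K]) (hK : K ≠ ⊥)
    (hE : Group.IsNilpotent E) :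
    IsCyclic E ∨ ∃ C Q : Subgroup G, C ⊔ Q = E ∧ (∀ a ∈ C, ∀ b ∈ Q, a * b = b * a) ∧ IsCyclic C ∧
      Odd (Nat.card C) ∧ ∃ n : ℕ, Nonempty (↥Q ≃* QuaternionGroup (2 ^ n)) := by
  have ho : Odd (Nat.card (piCoreOf {2}ᶜ E)) := by
    rw [← Nat.not_even_iff_odd, even_iff_two_dvd]
    exact (isPiSubgroup_single_compl_iff Nat.prime_two).1 (piCoreOf_isPi _ _)
  have hC : IsCyclic (piCoreOf {2}ᶜ E) := nil_Zgroup_cyclic
    (Semiregular_isZGroup (hr.mono le_rfl (piCoreOf_le _ _)) ((piCoreOf_le _ _).trans hn) hK ho)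
    (isNilpotent_of_le hE (piCoreOf_le _ _))
  rcases two_group_rank_one (piCoreOf_isPGroup Nat.prime_two E)
    (fun A hA hc => Semiregular_isCyclic hr hn hK (hA.trans (piCoreOf_le _ _)) hc) with h | ⟨n, h⟩
  · left
    refine Semiregular_isCyclic hr hn hK le_rfl ?_
    rw [← nil_piCoreOf_sup_compl hE {2}]
    exact isMulCommutative_sup (isMulCommutative_of_isCyclic h) (isMulCommutative_of_isCyclic hC)
      piCoreOf_le_cent_compl
  · right
    exact ⟨piCoreOf {2}ᶜ E, piCoreOf {2} E, by rw [sup_comm, nil_piCoreOf_sup_compl hE],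
      fun a ha b hb => le_cent_iff.1 piCoreOf_le_cent_compl b hb a ha, hC, ho, n + 1, h⟩

theorem cn_three_step (h : IsCNGroup G) (hs : Group.IsSolvable G) (hnn : ¬ Group.IsNilpotent G)
    (hno : ∀ (p : ℕ) (P : Subgroup G), p.Prime → IsPiHallOf {p} P ⊤ → (⊤ : Subgroup G) ≤ N[P] →
      P = ⊥) : ∃ p : ℕ, p.Prime ∧ IsThreeStepGroup p G := by
  have hs' : Group.IsSolvable (⊤ : Subgroup G) := isSolvable_top_iff.2 hs
  have htop : (⊤ : Subgroup G) ≠ ⊥ := fun e => hnn (isNilpotent_top_iff.1 (e ▸ inferInstance))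
  obtain ⟨p, hp, hH1⟩ := exists_piCoreOf_single_ne_bot hs' htop
  refine ⟨p, hp, ?_⟩
  set H := piCoreOf {p} (⊤ : Subgroup G) with hH
  have hHp : IsPGroup p H := piCoreOf_isPGroup hp _
  have hHn : ∀ X : Subgroup G, X ≤ N[H] := fun X => le_top.trans (self_le_norm_piCoreOf _ _)
  have hns : ¬ IsPiHallOf {p} H ⊤ := fun h' => hH1 (hno p H hp h' (hHn _))
  have h1 : piCoreOf {p}ᶜ (⊤ : Subgroup G) = ⊥ := by
    by_contra h2
    obtain ⟨P, hP⟩ := exists_syl hp (⊤ : Subgroup G)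
    have hPp := syl_isPGroup hp hP
    have h3 : piCoreOf {p}ᶜ ⊤ ≤ C[P] := cn_le_cent h
      (inf_cent_ne_bot_of_isPGroup hp hHp hPp (hHn _) hH1)
      (piCoreOf_compl_le_cent.trans (cent_anti inf_le_left)) (le_cent_symm inf_le_right)
      ((piCoreOf_isPi _ _).coprime' hP.isPi)
    have h4 : (⊤ : Subgroup G) ≤ N[P] :=
      (le_norm_cent (self_le_norm_piCoreOf _ _)).trans (norm_le_norm_syl_of_nilpotent hp
        (cn_cent h h2 le_rfl) (hP.of_le (le_cent_symm h3) le_top))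
    exact hns (isPiHallOf_piCoreOf_of_normal hP h4)
  have h2 : C[H] ≤ H := (le_inf le_top le_rfl).trans (inf_cent_piCoreOf_le hs' h1)
  obtain ⟨L, hL⟩ := exists_hall {p}ᶜ hs'
  have hHL : H ⊓ L = ⊥ := (piCoreOf_isPi _ _).inf_eq_bot hL.isPi
  have hr : Semiregular H L := by
    refine semiregular_of_card_prime fun X hX hXp => ?_
    by_contra hne
    have h3 := (cn_le_cent_of_nil h (nilpotent_of_isPGroup hp hHp) hne
      ((hL.isPi.of_le hX).coprime' (piCoreOf_isPi _ _))).trans h2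
    exact ne_bot_of_card_prime hXp (eq_bot_iff.2 (hHL ▸ le_inf h3 hX))
  have hLn := cn_compl_nilpotent h hr (hHn _) hH1
  obtain ⟨Q, _, _, f, hf, hk⟩ := exists_quo' ⊤ H le_top (hHn _)
  have hQ := cn_im h hf (hk ▸ solvable_of_isPGroup hp hHp)
  have hQt : im f ⊤ = ⊤ := im_dom_of_surj hf
  have hQp : piCoreOf {p} (⊤ : Subgroup Q) = ⊥ := hQt ▸ piCoreOf_im_eq_bot le_rfl hk
  have hQs : Group.IsSolvable (⊤ : Subgroup Q) := hQt ▸ solvable_im hs'
  have hLQ : IsPiHallOf {p}ᶜ (im f L) ⊤ := hQt ▸ hL.im le_rfl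
  have hne : H ⊔ L ≠ ⊤ := fun e => hns (e ▸ isPiHallOf_sup_left (Or.inr (hHn _))
    (piCoreOf_isPi _ _) hL.isPi)
  have hQn : ¬ Group.IsNilpotent (⊤ : Subgroup Q) := fun h' => by
    have h3 := nil_piCoreOf_sup_compl h' {p}
    rw [hQp, bot_sup_eq, ← nil_hall_eq_piCoreOf h' hLQ, ← hQt, im_eq_im_iff le_top le_rfl, hk,
      top_sup_eq, sup_comm] at h3
    exact hne h3
  have hf1 : ∀ a ∈ L, a ≠ 1 → f ⟨a, mem_top a⟩ ≠ 1 := fun a ha ha1 e => by
    rw [← mem_kr', hk] at e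
    exact ha1 (mem_bot.1 (hHL ▸ mem_inf.2 ⟨e, ha⟩))
  have ho : Odd (Nat.card L) := by
    rw [← Nat.not_even_iff_odd]
    intro he
    obtain ⟨t, ht, ht2⟩ := exists_mem_orderOf_eq Nat.prime_two he.two_dvd
    have ht1 : t ≠ 1 := by
      rintro rfl
      simp at ht2
    refine hQn (cn_cent1 hQ (hf1 t ht ht1) fun y _ => ?_)
    obtain ⟨g, rfl⟩ := hf y
    have h3 := h2 (commutator_mem_cent_of_fpf (hHn _ ht) (ht2 ▸ pow_orderOf_eq_one t) (hr t ht ht1)
      (hHn _ g.2))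
    rw [← hk, mem_kr' (mem_top _)] at h3
    rw [mem_cent1, ← commutatorElement_eq_one_iff_mul_comm, ← map_commutatorElement]
    exact h3
  have hLc : IsCyclic L := nil_Zgroup_cyclic (Semiregular_isZGroup hr (hHn _) hH1 ho) hLn
  have hF : fittingOf (⊤ : Subgroup Q) = im f L := by
    have h3 : fittingOf (⊤ : Subgroup Q) ≤ im f L :=
      (fittingOf_le_piCoreOf (π := {p}ᶜ) (by rwa [compl_compl])).trans (piCoreOf_le_hall hLQ)
    exact le_antisymm h3 (le_fittingOf_of_le_cent hQs le_top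
      ((isMulCommutative_iff_le_cent.1 (isMulCommutative_of_isCyclic (cyclic_im hLc))).trans
        (cent_anti h3)))
  have hLN : (⊤ : Subgroup Q) ≤ N[im f L] := hF ▸ self_le_norm_fittingOf ⊤
  have hHe : pCore p G = H := (piCoreOf_top_single hp).symm
  have hL1 : L ≠ ⊥ := by
    rintro rfl
    have := hL.isPi_compl_of_eq_bot
    rw [compl_compl] at this
    exact hnn (isNilpotent_top_iff.1 (nilpotent_of_isPGroup hp (this.isPGroup hp)))
  rw [IsThreeStepGroup, hHe]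
  refine ⟨hH1, L, hL1, hLc, ho, (isPiSubgroup_single_compl_iff_coprime hp).1 hL.isPi, ?_, hne, ?_,
    hr, fun x hx a ha ha1 hxa => hx ?_⟩
  · rw [normal_iff_top_le_norm, sup_comm, ← hk, ← im_le_norm_iff le_rfl le_top, hQt]
    exact hLN
  · rw [← relIndex_top_right, ← piNat_single_iff hp (relIndex_pos _ _).ne', ← piNat_compl_compl]
    exact hL.idx_of_le le_sup_right
  · have h3 : C1[f ⟨a, mem_top a⟩] ≤ im f L := by
      rw [← hF]
      refine le_fittingOf le_top ?_ (hQ _ (hf1 a ha ha1))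
      rw [← cent_zpowers]
      exact le_norm_cent (PG.le_norm_of_isCyclic (cyclic_im hLc)
        (zpowers_le.2 (mem_im_of_mem _ ha)) hLN)
    rw [sup_comm, ← hk, ← mem_im_iff_mem_sup (mem_top x) le_top]
    apply h3
    rw [← hk, mem_kr' (mem_top _)] at hxa
    rw [mem_cent1, ← commutatorElement_eq_one_iff_mul_comm, ← map_commutatorElement]
    exact hxa

theorem cn_cent1_eq (h : IsCNGroup G) (hmax : ∀ L : Subgroup G, Group.IsNilpotent L → H ≤ L → L = H)
    {z : G} (hz : z ≠ 1) (hH : H ≤ C1[z]) : C1[z] = H :=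
  hmax _ (h z hz) hH

theorem cn_le_of_cent (h : IsCNGroup G)
    (hmax : ∀ L : Subgroup G, Group.IsNilpotent L → H ≤ L → L = H) (hA : A ≠ ⊥) (hH : H ≤ C[A])
    (hK : K ≤ C[A]) : K ≤ H :=
  hK.trans (hmax _ (cn_cent h hA le_rfl) hH).le

theorem cn_syl_piCoreOf (h : IsCNGroup G) (hH : Group.IsNilpotent H)
    (hmax : ∀ L : Subgroup G, Group.IsNilpotent L → H ≤ L → L = H) (hp : p.Prime)
    (hd : p ∣ Nat.card H) : IsPiHallOf {p} (piCoreOf {p} H) ⊤ := by
  have hP := nil_isPiHallOf_piCoreOf hH {p}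
  set P := piCoreOf {p} H with hPd
  have hPp := syl_isPGroup hp hP
  obtain ⟨S, hS, hPS⟩ := exists_syl_ge hp hPp (le_top (a := P))
  have hSp := syl_isPGroup hp hS
  rcases hPS.eq_or_lt with e | hlt
  · rwa [e]
  exfalso
  have h1 := lt_inf_norm_of_isPGroup hp hSp hlt
  have h2 : P ⊓ C[S ⊓ N[P]] ≠ ⊥ := inf_cent_ne_bot_of_isPGroup hp hPp (hSp.to_le inf_le_left)
    inf_le_right ((syl_ne_bot_iff hp hP).2 hd)
  have h3 : S ⊓ N[P] ≤ H := cn_le_of_cent h hmax h2 (by
    rw [← nil_piCoreOf_sup_compl hH {p}]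
    exact sup_le (h1.le.trans (le_cent_symm inf_le_right))
      (piCoreOf_compl_le_cent.trans (cent_anti inf_le_left))) (le_cent_symm inf_le_right)
  exact h1.ne' (syl_eq_of_le hp hP (hSp.to_le inf_le_left) h3 h1.le)

end Cfsg.Agent.Cls
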