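import Cfsg.Agent.Cls.BSW4
import Cfsg.Agent.Cls.CN
import Cfsg.Agent.PF.OddOrder

/-! The Brauer–Suzuki–Wall theorem, part 5: the Sylow `p`-subgroups are abelian. -/

set_option autoImplicit false
set_option linter.unusedSectionVars false
set_option linter.unusedVariables false

namespace Cfsg.Agent.Cls

open Cfsg Subgroup Cfsg.Agent.GT
open scoped commutatorElement

universe u

variable {G : Type u} [Group G] [Finite G] {p q : ℕ} {K L P Q V : Subgroup G}

theorem pow_card_eq_one_of_norm [IsMulCommutative V] {y : G} (hp : p.Prime) (hK : K ≤ N[V])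
    (hy : y ∈ N[V]) (hyK : y ∈ N[K]) (hyp : y ^ p = 1) (h1 : ∀ v ∈ V, (v * y) ^ p = 1)
    (h2 : V ⊓ C[K] = ⊥) (h3 : K ⊓ C1[y] = ⊥) {v : G} (hv : v ∈ V) : v ^ Nat.card K = 1 := by
  classical
  have := Fintype.ofFinite K
  set Y := conjEnd V ⟨y, hy⟩ with hY
  let κ : K →* Module.End ℤ (AbV V) := (conjEnd V).comp (inclusion hK)
  have hYi : ∀ (i : ℕ) (w : AbV V), ((Y ^ i) w).val = y ^ i * w.val * (y ^ i)⁻¹ := fun i w => by
    rw [hY, ← map_pow, val_conjEnd]; rfl
  have ha : ∑ i ∈ Finset.range p, Y ^ i = 0 := by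
    refine LinearMap.ext fun w => ?_
    have : ∀ n, (w.val * y) ^ n = ((∑ i ∈ Finset.range n, Y ^ i) w).val * y ^ n := fun n => by
      induction n with
      | zero => simp
      | succ n ih =>
        rw [pow_succ, ih, Finset.sum_range_succ, LinearMap.add_apply, AbV.val_add, hYi]; group
    have h4 := this p
    rw [h1 _ w.val_mem, hyp, mul_one] at h4
    exact AbV.val_eq_one.1 h4.symm
  have hb : ∑ k, κ k = 0 := by
    refine LinearMap.ext fun w => AbV.val_eq_one.1 ?_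
    rw [← mem_bot, ← h2]
    refine ⟨AbV.val_mem _, fun k hk => ?_⟩
    have e : κ ⟨k, hk⟩ * ∑ k, κ k = ∑ k, κ k := by
      rw [Finset.mul_sum]
      exact Fintype.sum_equiv (Equiv.mulLeft ⟨k, hk⟩) _ _ fun x => by simp
    exact (mem_cent1.1 ((conjEnd_apply_eq_iff V ⟨k, hK hk⟩ _).1 (LinearMap.congr_fun e w))).symm
  have hc : ∀ i, 0 < i → i < p → ∑ k, κ k * Y ^ i * κ k⁻¹ = 0 := fun i hi0 hi => by
    obtain ⟨j, hj⟩ : ∃ j, (y ^ i) ^ j = y := exists_pow_eq_self_of_coprime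
      ((Nat.coprime_of_lt_prime hi0.ne' hi hp).symm.coprime_dvd_right
        (orderOf_dvd_of_pow_eq_one hyp))
    let f : K → K := fun k =>
      ⟨k * (y ^ i * (k : G)⁻¹ * (y ^ i)⁻¹), mul_mem k.2 (conj_mem_of_mem_norm (pow_mem hyK i)
        (inv_mem k.2))⟩
    have hf : Function.Injective f := fun a b e => by
      have e' : (a : G) * (y ^ i * (a : G)⁻¹ * (y ^ i)⁻¹) = b * (y ^ i * (b : G)⁻¹ * (y ^ i)⁻¹) :=
        Subtype.ext_iff.1 e
      have h4 : (b : G)⁻¹ * a ∈ K ⊓ C1[y] := by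
        refine mem_inf.2 ⟨mul_mem (inv_mem b.2) a.2, ?_⟩
        rw [← hj]
        refine cent1_pow_ge _ j (mem_cent1.2 ?_)
        calc (b : G)⁻¹ * a * y ^ i = (b : G)⁻¹ * (a * (y ^ i * (a : G)⁻¹ * (y ^ i)⁻¹)) * y ^ i * a := by
              group
          _ = y ^ i * ((b : G)⁻¹ * a) := by rw [e']; group
      rw [h3, mem_bot, inv_mul_eq_one] at h4
      exact Subtype.ext h4.symm
    have e : ∀ k, κ k * Y ^ i * κ k⁻¹ = κ (f k) * Y ^ i := fun k => by
      simp only [κ, hY, MonoidHom.comp_apply, ← map_pow, ← map_mul]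
      congr 1
      exact Subtype.ext (by simp [f, mul_assoc])
    simp only [e]
    rw [← Finset.sum_mul, (Finite.injective_iff_bijective.1 hf).sum_comp κ, hb, zero_mul]
  have hd : ∑ k, κ k * (∑ i ∈ Finset.range p, Y ^ i) * κ k⁻¹ = 0 := by simp [ha]
  simp only [Finset.mul_sum, Finset.sum_mul] at hd
  rw [Finset.sum_comm, Finset.sum_eq_single_of_mem 0 (Finset.mem_range.2 hp.pos)
    fun i hi hi0 => hc i (Nat.pos_of_ne_zero hi0) (Finset.mem_range.1 hi)] at hd
  simp only [pow_zero, mul_one, ← map_mul, mul_inv_cancel, map_one, Finset.sum_const,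
    Finset.card_univ, ← Nat.card_eq_fintype_card] at hd
  have h5 := congrArg AbV.val (LinearMap.congr_fun hd (AbV.mk v hv))
  simpa using h5

/-- The centralizers of `p`-elements are `p`-groups and the `p`-elements have order `p`. -/
structure CpExp (G : Type u) [Group G] (p : ℕ) : Prop where
  prime : p.Prime
  ne_two : p ≠ 2
  cent : ∀ y : G, y ≠ 1 → y ^ p = 1 → IsPGroup p C1[y]
  exp : ∀ (y : G) (n : ℕ), y ^ p ^ n = 1 → y ^ p = 1

namespace CpExp

theorem pow_eq (h : CpExp G p) (hP : IsPGroup p P) {y : G} (hy : y ∈ P) : y ^ p = 1 := by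
  obtain ⟨n, hn⟩ := PG.exists_pow_eq_one hP hy
  exact h.exp y n hn

theorem semiregular (h : CpExp G p) (hP : IsPGroup p P) (hK : IsPiSubgroup {p}ᶜ K) :
    Semiregular P K := semiregular_iff.2 fun x hx hx1 y hy e => by
  by_contra hy1
  obtain ⟨n, hn⟩ := PG.exists_pow_eq_one (h.cent y hy1 (h.pow_eq hP hy)) (mem_cent1.2 e.symm)
  have := orderOf_eq_prime (hp := ⟨h.prime⟩) (h.exp x n hn) hx1
  exact (isPiSubgroup_single_compl_iff h.prime).1 hK (this ▸ K.orderOf_dvd_natCard hx)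

theorem mem_pcore (h : CpExp G p) (h1 : piCoreOf {p} L ≠ ⊥) {y : G} (hy : y ∈ L)
    (hyp : y ^ p = 1) : y ∈ piCoreOf {p} L := by
  have hp := h.prime
  have := Fact.mk hp
  set D := piCoreOf {p} L with hD
  have hDp : IsPGroup p D := piCoreOf_isPGroup hp L
  have hDn : L ≤ N[D] := self_le_norm_piCoreOf _ _
  have hY : ∀ {y : G}, y ∈ L → y ^ p = 1 → IsPGroup p ↥(D ⊔ zpowers y) := fun {y} hy hyp =>
    hDp.to_sup_of_normal_left' (PG.isPGroup_zpowers_of_pow_eq_one (k := 1) (by rwa [pow_one]))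
      (zpowers_le.2 (hDn hy))
  rcases Nat.even_or_odd (Nat.card L) with he | ho
  · have := Fact.mk Nat.prime_two
    obtain ⟨⟨u, hu⟩, hu2⟩ := exists_prime_orderOf_dvd_card' 2 (even_iff_two_dvd.1 he)
    rw [← orderOf_coe] at hu2
    simp only at hu2
    have hu1 : u ≠ 1 := fun e => by rw [e, orderOf_one] at hu2; omega
    have hu2' : u ^ 2 = 1 := hu2 ▸ pow_orderOf_eq_one u
    have hreg : ∀ {P : Subgroup G}, IsPGroup p P → P ⊓ C1[u] = ⊥ := fun hP =>
      h.semiregular hP ((isPiSubgroup_single_compl_iff hp).2 (by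
        rw [Nat.card_zpowers, hu2]
        exact fun e => h.ne_two ((Nat.prime_dvd_prime_iff_eq hp Nat.prime_two).1 e))) u
        (mem_zpowers u) hu1
    have hC : L ⊓ C[D] ≤ D := by
      obtain ⟨z, hz, hz1⟩ := (bot_or_exists_ne_one D).resolve_left h1
      exact le_piCoreOf_single hp inf_le_left (le_norm_inf le_normalizer (le_norm_cent hDn))
        ((h.cent z hz1 (h.pow_eq hDp hz)).to_le (inf_le_right.trans (cent_le_cent1 hz)))
    have h2 : ⁅y, u⁆ ∈ D := hC ⟨L.mul_mem (L.mul_mem (L.mul_mem hy hu) (L.inv_mem hy)) (L.inv_mem hu),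
      commutator_mem_cent_of_fpf (hDn hu) hu2' (hreg hDp) (hDn hy)⟩
    have h3 : u ∈ N[D ⊔ zpowers y] := by
      refine mem_normalizer_of_conj_le (by
        rw [conj_sup, conj_eq_self (hDn hu), conj_zpowers]
        refine sup_le le_sup_left (zpowers_le.2 ?_)
        rw [show u * y * u⁻¹ = ⁅y, u⁆⁻¹ * y by group]
        exact mul_mem (mem_sup_left (inv_mem h2)) (mem_sup_right (mem_zpowers y)))
    have h4 := conj_eq_inv_of_fpf h3 hu2' (hreg (hY hy hyp)) (mem_sup_right (mem_zpowers y))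
    have h5 : ⁅y, u⁆ = y ^ 2 := by
      rw [show ⁅y, u⁆ = y * (u * y * u⁻¹)⁻¹ by group, h4, inv_inv, pow_two]
    obtain ⟨j, hj⟩ : ∃ j, (y ^ 2) ^ j = y := exists_pow_eq_self_of_coprime
      (((Nat.coprime_primes Nat.prime_two hp).2 h.ne_two.symm).coprime_dvd_right
        (orderOf_dvd_of_pow_eq_one hyp))
    rw [← hj, ← h5]
    exact pow_mem h2 j
  have hs : Group.IsSolvable L := PF.odd_order_solvable ho
  set L2 := piCore2Of {p} {p}ᶜ L with hL2
  have hL2L : L2 ≤ L := piCore2Of_le _ _ _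
  obtain ⟨T, hT⟩ := exists_hall {p}ᶜ (isSolvable_of_le hs hL2L)
  have hT' : IsPiHallOf {p}ᶜ T (piCore2Of {p}ᶜᶜ {p}ᶜ L) := by rwa [compl_compl]
  have e1 := piCoreOf_sup_eq_piCore2Of hT'
  have e2 := inf_cent_le_piCore2Of hs hT'
  have e3 := isPiHallOf_piCoreOf_piCore2Of (π := {p}ᶜ) (H := L)
  rw [compl_compl] at e1 e2 e3
  have hTL : T ≤ L := hT.le.trans hL2L
  obtain ⟨k, hk, n, hn, rfl⟩ := hall_frattini_exists hT (isSolvable_of_le hs hL2L)
    (self_le_norm_piCore2Of _ _ _ hy)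
  rw [← hL2, ← hD] at e1 e3
  rw [← e1] at hk
  obtain ⟨d, hd, τ, hτ, rfl⟩ := (mem_sup_of_le_norm' (hTL.trans hDn)).1 hk
  have hz : τ * n ∈ D ⊔ zpowers (d * τ * n) := by
    rw [show τ * n = d⁻¹ * (d * τ * n) by group]
    exact mul_mem (mem_sup_left (inv_mem hd)) (mem_sup_right (mem_zpowers _))
  have hzp := h.pow_eq (hY hy hyp) hz
  have hzL : τ * n ∈ L := (sup_le (piCoreOf_le _ _) (zpowers_le.2 hy)) hz
  have hzT : τ * n ∈ N[T] := mul_mem (le_normalizer hτ) hn
  rw [mul_assoc]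
  generalize τ * n = z at *
  have hZ : IsPGroup p (zpowers z) := PG.isPGroup_zpowers_of_pow_eq_one (k := 1) (by rwa [pow_one])
  refine mul_mem hd (zpowers_le.1 (le_syl_of_le_norm hp e3 hZ (zpowers_le.2 (e2 ⟨hzL, ?_⟩))
    (zpowers_le.2 (hDn hzL))))
  by_contra hne
  have hco : (Nat.card T).Coprime (Nat.card (zpowers z)) :=
    hT.isPi.coprime' ((isPiSubgroup_single_iff hp).2 hZ)
  have hzg := Semiregular_isZGroup (h.semiregular hDp hT.isPi) (hTL.trans hDn) h1
    (Odd.of_dvd_nat ho (card_dvd_of_le hTL))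
  obtain ⟨r, R, hr, hR, hRn, hRz⟩ : ∃ r R, r.Prime ∧ IsPiHallOf {r} R T ∧ zpowers z ≤ N[R] ∧
      ¬ R ≤ C1[z] := by
    by_contra hno
    push Not at hno
    have := isPiHallOf_of_forall_syl_le (π := Set.univ) (K := T ⊓ C1[z]) (H := T) inf_le_left
      (fun _ _ _ => trivial) fun r hr _ _ => by
        obtain ⟨R, hR, hRn⟩ := coprime_exists_syl hr (Or.inl (isSolvable_of_le hs hTL))
          (zpowers_le.2 hzT) hco
        exact ⟨R, hR, le_inf hR.le (hno r R hr hR hRn)⟩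
    exact hne (mem_cent_iff_le_cent1.2
      ((this.eq_of_le inf_le_left le_rfl fun _ _ _ => trivial).le.trans inf_le_right))
  have hRc := zgroup_cyclic hzg hr hR.le (syl_isPGroup hr hR)
  have hcoR := coprime_card_of_le hco hR.le le_rfl
  have hK1 := coprime_comm_commutator_inf_cent (isMulCommutative_of_isCyclic hRc) hRn hcoR
  rw [cent_zpowers] at hK1
  have hKR : ⁅R, zpowers z⁆ ≤ R := commutator_le_of_le_norm_left hRn
  have hK0 : ⁅R, zpowers z⁆ ≠ ⊥ := fun e => hRz (by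
    rwa [commutator_eq_bot_iff_le_centralizer, cent_zpowers] at e)
  have hKT := hKR.trans hR.le
  have hVc : IsMulCommutative ↥(D ⊓ C[D]) := isMulCommutative_inf_cent D
  have hVp : IsPGroup p ↥(D ⊓ C[D]) := hDp.to_le inf_le_left
  have hVn : L ≤ N[D ⊓ C[D]] := le_norm_inf hDn (le_norm_cent hDn)
  have hKp := hT.isPi.of_le hKT
  obtain ⟨v, hv, hv1⟩ := (bot_or_exists_ne_one _).resolve_left (PG.center_ne_bot hDp h1)
  have h6 := pow_card_eq_one_of_norm hp ((hKT.trans hTL).trans hVn) (hVn hzL)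
    (zpowers_le.1 (le_norm_commutator hRn le_normalizer)) hzp
    (fun v hv => h.pow_eq (hY hzL hzp) (mul_mem (mem_sup_left hv.1) (mem_sup_right (mem_zpowers z))))
    ((h.semiregular hVp hKp).inf_cent le_rfl hK0) hK1 hv
  have h7 := orderOf_eq_prime (h.pow_eq hVp hv) hv1
  exact (isPiSubgroup_single_compl_iff hp).1 hKp (h7 ▸ orderOf_dvd_of_pow_eq_one h6)

theorem syl_eq_aux (h : CpExp G p) (n : ℕ) : ∀ P Q : Subgroup G, IsPiHallOf {p} P ⊤ →
    IsPiHallOf {p} Q ⊤ → P ⊓ Q ≠ ⊥ → Nat.card G - Nat.card ↥(P ⊓ Q) = n → P = Q := by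
  induction n using Nat.strong_induction_on with
  | _ n ih =>
  intro P Q hP hQ hne hn
  have hp := h.prime
  by_contra hPQ
  set D := P ⊓ Q with hD
  have hDP : D < P := lt_of_le_of_ne inf_le_left fun e =>
    hPQ (hP.eq_of_le_hall hQ (e ▸ inf_le_right))
  have hDQ : D < Q := lt_of_le_of_ne inf_le_right fun e =>
    hPQ (hQ.eq_of_le_hall hP (e ▸ inf_le_left)).symm
  have hPp := syl_isPGroup hp hP
  have hQp := syl_isPGroup hp hQ
  have h1 := lt_inf_norm_of_isPGroup hp hPp hDP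
  have h2 := lt_inf_norm_of_isPGroup hp hQp hDQ
  have h0 : piCoreOf {p} N[D] ≠ ⊥ := fun e => hne (le_bot_iff.1
    (e ▸ le_piCoreOf_single hp le_normalizer le_rfl (hPp.to_le inf_le_left)))
  obtain ⟨R, hR, hR'⟩ := exists_syl_ge hp (piCoreOf_isPGroup hp N[D]) le_top
  have hlt : ∀ X : Subgroup G, D < X → Nat.card G - Nat.card X < n := fun X hX => by
    have := card_lt_of_lt hX
    have := card_le_card_group X
    omega
  have h3 : D < P ⊓ R := h1.trans_le (le_inf inf_le_left fun y hy =>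
    hR' (h.mem_pcore h0 hy.2 (h.pow_eq hPp hy.1)))
  have h4 : D < Q ⊓ R := h2.trans_le (le_inf inf_le_left fun y hy =>
    hR' (h.mem_pcore h0 hy.2 (h.pow_eq hQp hy.1)))
  exact hPQ ((ih _ (hlt _ h3) P R hP hR (ne_bot_of_gt h3) rfl).trans
    (ih _ (hlt _ h4) Q R hQ hR (ne_bot_of_gt h4) rfl).symm)

theorem syl_eq (h : CpExp G p) (hP : IsPiHallOf {p} P ⊤) (hQ : IsPiHallOf {p} Q ⊤)
    (hne : P ⊓ Q ≠ ⊥) : P = Q := h.syl_eq_aux _ P Q hP hQ hne rfl

end CpExp

namespace BSWLoc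

theorem dvd_card (h : BSWLoc G q) : q ∣ Nat.card G := by
  refine (Nat.coprime_two_right.2 h.odd).dvd_of_dvd_mul_left ?_
  exact (Nat.dvd_add_left (dvd_refl q)).1 (h.card ▸ dvd_pow_self q (by norm_num))

theorem exists_cpExp (h : BSWLoc G q) : ∃ p a : ℕ, CpExp G p ∧ q = p ^ a := by
  have h3 := h.three_le
  have hp := Nat.minFac_prime (show q ≠ 1 by omega)
  have hpq := Nat.minFac_dvd q
  generalize q.minFac = p at hp hpq
  have := Fact.mk hp
  have hne : ∀ {y : G} {r : ℕ}, r.Prime → orderOf y = r → y ≠ 1 := fun hr hy e =>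
    hr.one_lt.ne (by rw [← hy, e, orderOf_one])
  have hord : ∀ {a b : G}, IsConj a b → orderOf a = orderOf b := fun hab => by
    obtain ⟨c, rfl⟩ := isConj_iff.1 hab
    rw [← MulAut.conj_apply, MulEquiv.orderOf_eq]
  have hq : q = p ^ q.primeFactorsList.length := by
    refine Nat.eq_prime_pow_of_unique_prime_dvd (by omega) fun {r} hr hrq => by_contra fun hrp => ?_
    obtain ⟨y, hy⟩ := exists_prime_orderOf_dvd_card' p (hpq.trans h.dvd_card)
    have hyq : y ^ q = 1 := orderOf_dvd_iff_pow_eq_one.1 (hy ▸ hpq)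
    have := Fact.mk hr
    obtain ⟨⟨z, hz⟩, hzr⟩ := exists_prime_orderOf_dvd_card' (G := C1[y]) r
      (by rwa [h.cent y (hne hp hy) hyq])
    rw [← orderOf_coe] at hzr
    simp only at hzr
    have hzq : z ^ q = 1 := orderOf_dvd_iff_pow_eq_one.1 (hzr ▸ hrq)
    have hc : Commute y z := (mem_cent1.1 hz).symm
    have ho := hc.orderOf_mul_eq_mul_orderOf_of_coprime
      (by rw [hy, hzr]; exact (Nat.coprime_primes hp hr).2 (Ne.symm hrp))
    rw [hy, hzr] at ho
    have h1 := hp.one_lt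
    have h2 := hr.one_lt
    rcases h.three y z (y * z) (hne hp hy) hyq (hne hr hzr) hzq
      (fun e => by rw [e, orderOf_one] at ho; nlinarith) (by rw [hc.mul_pow, hyq, hzq, mul_one]) with
      e | e | e <;> have := hord e
    · exact hrp (by rw [← hy, ← hzr, this])
    · rw [hy, ho] at this; nlinarith
    · rw [hzr, ho] at this; nlinarith
  generalize q.primeFactorsList.length = a at hq
  have core : ∀ y : G, (y ^ p) ^ p = 1 → y ^ p = 1 := fun y hy => by
    by_contra ha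
    have hy1 : y ≠ 1 := fun e => ha (by rw [e, one_pow])
    have haq : (y ^ p) ^ q = 1 := orderOf_dvd_iff_pow_eq_one.1
      ((orderOf_dvd_of_pow_eq_one hy).trans hpq)
    have hyq : y ^ q = 1 := orderOf_dvd_iff_pow_eq_one.1 (by
      rw [← h.cent _ ha haq]
      exact orderOf_dvd_natCard _ (cent1_pow_ge y p (self_mem_cent1 y)))
    have hc : Commute y (y ^ p) := (Commute.refl y).pow_right p
    have e1 : (y * y ^ p) ^ p = y ^ p := by rw [hc.mul_pow, hy, mul_one]
    have cp : ∀ {a b : G}, IsConj a b → b ^ p = 1 → a ^ p = 1 := fun hab hb =>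
      orderOf_dvd_iff_pow_eq_one.1 (hord hab ▸ orderOf_dvd_of_pow_eq_one hb)
    rcases h.three y (y * y ^ p) (y ^ p) hy1 hyq (fun e => ha (by rw [← e1, e, one_pow]))
      (by rw [hc.mul_pow, hyq, haq, mul_one]) ha haq with e | e | e
    · obtain ⟨g, hg⟩ := isConj_iff.1 e
      have e2 : C1[y] = C1[y ^ p] := eq_of_le_of_card_ge (cent1_pow_ge y p)
        (by rw [h.cent _ ha haq, h.cent _ hy1 hyq])
      have e3 : g ∈ C1[y] := by
        rw [e2, mem_cent1, ← mul_inv_eq_iff_eq_mul, ← conj_pow, hg, e1]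
      rw [mem_cent1.1 e3, mul_inv_cancel_right, left_eq_mul] at hg
      exact ha hg
    · exact ha (cp e hy)
    · exact ha (e1 ▸ cp e hy)
  refine ⟨p, a, ⟨hp, fun e => ?_, fun y hy1 hy => ?_, fun y n => ?_⟩, hq⟩
  · exact Nat.not_even_iff_odd.2 h.odd (even_iff_two_dvd.2 (e ▸ hpq))
  · exact IsPGroup.of_card ((h.cent y hy1 (orderOf_dvd_iff_pow_eq_one.1
      ((orderOf_dvd_of_pow_eq_one hy).trans hpq))).trans hq)
  · induction n generalizing y with
    | zero => intro e; rw [pow_zero, pow_one] at e; rw [e, one_pow]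
    | succ n ih => intro e; exact core y (ih _ (by rwa [← pow_mul, ← pow_succ']))

end BSWLoc

end Cfsg.Agent.Cls
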