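import Cfsg.Agent.Chev.RelSL2
import Cfsg.Agent.Cl.Simple60
import Cfsg.Agent.Cl.SL2Tori

/-! Recognition of `PSL₂(F)`, `|F|` odd, as a doubly transitive group on `F ∪ {∞}`. -/

set_option autoImplicit false
set_option linter.unusedSectionVars false
set_option linter.unusedVariables false

namespace Cfsg.Agent.Cls

open Subgroup

/-- The data of a doubly transitive action on `F ∪ {∞}` with the squares as two point
stabiliser. -/
structure ZData (G Ω F : Type*) [Group G] [MulAction G Ω] [Field F] where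
  ω : Ω
  o : Ω
  x : F → G
  E : Subgroup G
  ψ : E →* F
  w : G
  ne : o ≠ ω
  x_add : ∀ a b, x (a + b) = x a * x b
  x_ω : ∀ a, x a • ω = ω
  E_ω : ∀ e ∈ E, e • ω = ω
  E_o : ∀ e ∈ E, e • o = o
  w_ω : w • ω = o
  w_w : w * w = 1
  w_E : ∀ e ∈ E, w * e = e⁻¹ * w
  E_x : ∀ (e : E) a, e * x a = x (ψ e * a) * e
  reg : ∀ y, y ≠ ω → ∃! a, x a • o = y
  stab : ∀ g : G, g • ω = ω → ∃ a, ∃ e ∈ E, g = x a * e
  inj : Function.Injective ψ
  card : 2 * Nat.card E + 1 = Nat.card F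

namespace ZData

variable {G Ω F : Type*} [Group G] [MulAction G Ω] [Field F] (Z : ZData G Ω F)

theorem x_zero : Z.x 0 = 1 := by simpa using Z.x_add 0 0

theorem x_neg (a : F) : Z.x (-a) = (Z.x a)⁻¹ :=
  eq_inv_of_mul_eq_one_left (by rw [← Z.x_add, neg_add_cancel, Z.x_zero])

theorem w_inv : Z.w⁻¹ = Z.w := inv_eq_of_mul_eq_one_right Z.w_w

theorem w_o : Z.w • Z.o = Z.ω := by rw [← Z.w_ω, ← mul_smul, Z.w_w, one_smul]

theorem psi_ne (e : Z.E) : Z.ψ e ≠ 0 := fun h => by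
  have := map_mul Z.ψ e e⁻¹
  rw [h, mul_inv_cancel, map_one, zero_mul] at this
  exact one_ne_zero this

theorem psi_inv (e : Z.E) : Z.ψ e⁻¹ = (Z.ψ e)⁻¹ :=
  eq_inv_of_mul_eq_one_left (by rw [← map_mul, inv_mul_cancel, map_one])

theorem x_E (e : Z.E) (a : F) : Z.x a * e = e * Z.x (a / Z.ψ e) := by
  rw [Z.E_x, mul_div_cancel₀ _ (Z.psi_ne e)]

theorem x_o_ne (a : F) : Z.x a • Z.o ≠ Z.ω := fun h => Z.ne (by
  rw [← Z.x_ω a] at h; exact smul_left_cancel _ h)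

theorem eq_of_x_o {a b : F} (h : Z.x a • Z.o = Z.x b • Z.o) : a = b :=
  (Z.reg _ (Z.x_o_ne b)).unique h rfl

theorem big_smul (u v : F) (e : Z.E) : (Z.x u * e * Z.w * Z.x v) • Z.ω = Z.x u • Z.o := by
  simp only [mul_smul, Z.x_ω, Z.w_ω, Z.E_o e e.2]

theorem uniq {u v u' v' : F} {e e' : Z.E}
    (h : Z.x u * e * Z.w * Z.x v = Z.x u' * e' * Z.w * Z.x v') : u = u' ∧ e = e' ∧ v = v' := by
  have h1 : u = u' := Z.eq_of_x_o (by rw [← Z.big_smul u v e, h, Z.big_smul])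
  subst h1
  have h2 : (e : G) * Z.w * Z.x v = e' * Z.w * Z.x v' := by
    simpa only [mul_assoc, mul_right_inj] using h
  have h3 : v = v' := by
    have h4 : Z.w * Z.x (v' - v) = (e' : G)⁻¹ * e * Z.w := by
      rw [sub_eq_add_neg, Z.x_add, Z.x_neg]
      calc _ = (e' : G)⁻¹ * (e' * Z.w * Z.x v') * (Z.x v)⁻¹ := by group
        _ = _ := by rw [← h2]; group
    have h5 := congrArg (· • Z.o) h4
    simp only [mul_smul, Z.w_o, Z.E_ω e e.2, Z.E_ω _ (inv_mem e'.2)] at h5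
    rw [← Z.w_o, smul_left_cancel_iff] at h5
    have := Z.eq_of_x_o (a := v' - v) (b := 0) (by rw [h5, Z.x_zero, one_smul])
    exact (sub_eq_zero.1 this).symm
  subst h3
  exact ⟨rfl, Subtype.ext (by simpa using h2), rfl⟩

theorem exists_big {g : G} (hg : g • Z.ω ≠ Z.ω) :
    ∃ (u : F) (e : Z.E) (v : F), g = Z.x u * e * Z.w * Z.x v := by
  obtain ⟨u, hu, -⟩ := Z.reg _ hg
  obtain ⟨a, e, he, h⟩ := Z.stab (Z.w * (Z.x u)⁻¹ * g) (by
    rw [mul_smul, mul_smul, ← hu, inv_smul_smul, Z.w_o])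
  refine ⟨u, ⟨e, he⟩⁻¹, a / Z.ψ ⟨e, he⟩, ?_⟩
  have h1 := Z.x_E ⟨e, he⟩ a
  simp only [coe_inv] at h1 ⊢
  rw [mul_assoc (Z.x u), ← Z.w_E e he, mul_assoc, mul_assoc, ← h1, ← h, ← mul_assoc, ← mul_assoc,
    mul_assoc (Z.x u), ← mul_assoc Z.w, Z.w_w]
  group

theorem wxw_ne {a : F} (ha : a ≠ 0) : (Z.w * Z.x a * Z.w) • Z.ω ≠ Z.ω := fun h => by
  rw [mul_smul, mul_smul, Z.w_ω, ← Z.w_o, smul_left_cancel_iff] at h
  exact ha (Z.eq_of_x_o (by rw [h, Z.x_zero, one_smul]))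

theorem exists_sq [Finite F] {a b : F} (ha : a ≠ 0) (hb : b ≠ 0)
    (h : (∃ e, Z.ψ e = a) ↔ ∃ e, Z.ψ e = b) : ∃ e, Z.ψ e = a * b := by
  have hi : Function.Injective Z.ψ.toHomUnits := fun e e' h => Z.inj (by
    simpa using congrArg Units.val h)
  have hU : Z.ψ.toHomUnits.range.index = 2 := by
    have h1 := Z.ψ.toHomUnits.range.card_mul_index
    have h2 := Z.card
    have h3 : 0 < Nat.card Z.E := by
      have := Finite.of_injective _ Z.inj
      exact Nat.card_pos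
    rw [← Nat.card_congr (MonoidHom.ofInjective hi).toEquiv, Nat.card_units] at h1
    refine Nat.eq_of_mul_eq_mul_left h3 ?_
    omega
  have hm : ∀ {c : F} (hc : c ≠ 0), Units.mk0 c hc ∈ Z.ψ.toHomUnits.range ↔ ∃ e, Z.ψ e = c :=
    fun hc => by simp [Units.ext_iff]
  rw [← hm (mul_ne_zero ha hb), Units.mk0_mul, mul_mem_iff_of_index_two hU, hm, hm]
  exact h

theorem exists_wxw [Finite F] : ∃ ρ : Z.E, ∀ a : F, a ≠ 0 → ∃ e : Z.E,
    Z.ψ e = -Z.ψ ρ / a * (-1 / a) ∧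
      Z.w * Z.x a * Z.w = Z.x (-Z.ψ ρ / a) * e * Z.w * Z.x (-Z.ψ ρ / a) := by
  have H' : ∀ a : F, ∃ (u : F) (e : Z.E) (v : F), a ≠ 0 →
      Z.w * Z.x a * Z.w = Z.x u * e * Z.w * Z.x v := fun a => by
    by_cases h : a = 0
    · exact ⟨0, 1, 0, fun h' => absurd h h'⟩
    · obtain ⟨u, e, v, h⟩ := Z.exists_big (Z.wxw_ne h)
      exact ⟨u, e, v, fun _ => h⟩
  choose f h g hB using H'
  have ww : ∀ y, Z.w * (Z.w * y) = y := fun y => by rw [← mul_assoc, Z.w_w, one_mul]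
  have wE : ∀ (e : Z.E) y, Z.w * (e * y) = (e : G)⁻¹ * (Z.w * y) := fun e y => by
    rw [← mul_assoc, Z.w_E e e.2, mul_assoc]
  have wE' : ∀ (e : Z.E) y, Z.w * ((e : G)⁻¹ * y) = e * (Z.w * y) := fun e y => by
    simpa using wE e⁻¹ y
  have f0 : ∀ a, a ≠ 0 → f a ≠ 0 := fun a ha e => by
    have := congrArg (· • Z.ω) (hB a ha)
    simp only [Z.big_smul] at this
    rw [e, Z.x_zero, one_smul, mul_smul, mul_smul, Z.w_ω] at this
    exact Z.x_o_ne a (smul_left_cancel _ (this.trans Z.w_ω.symm))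
  have R1 : ∀ a, a ≠ 0 → g a = -f (-a) := fun a ha => by
    have e : Z.x (f (-a)) * h (-a) * Z.w * Z.x (g (-a)) = Z.x (-g a) * h a * Z.w * Z.x (-f a) := by
      rw [← hB _ (neg_ne_zero.2 ha), Z.x_neg, Z.x_neg, Z.x_neg]
      calc _ = (Z.w * Z.x a * Z.w)⁻¹ := by simp [Z.w_inv, mul_assoc]
        _ = _ := by rw [hB a ha]; simp [Z.w_inv, mul_assoc, wE']
    rw [(Z.uniq e).1, neg_neg]
  have R2 : ∀ (e : Z.E) a, a ≠ 0 → f (Z.ψ e * a) = f a / Z.ψ e := fun e a ha => by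
    have e1 : Z.x (f (Z.ψ e * a)) * h (Z.ψ e * a) * Z.w * Z.x (g (Z.ψ e * a)) =
        Z.x (f a / Z.ψ e) * (e⁻¹ * h a * e⁻¹ : Z.E) * Z.w * Z.x (g a / Z.ψ e) := by
      rw [← hB _ (mul_ne_zero (Z.psi_ne e) ha)]
      calc _ = Z.w * (Z.x (Z.ψ e * a) * e) * (e : G)⁻¹ * Z.w := by group
        _ = (e : G)⁻¹ * (Z.w * Z.x a * Z.w) * e := by
          rw [← Z.E_x]; simp [mul_assoc, wE, Z.w_E e e.2]
        _ = (e : G)⁻¹ * (Z.x (f a) * e) * (e : G)⁻¹ * h a * Z.w * (Z.x (g a) * e) := by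
          rw [hB a ha]; group
        _ = _ := by rw [Z.x_E, Z.x_E]; simp [mul_assoc, wE]
    exact (Z.uniq e1).1
  have R3 : ∀ a, a ≠ 0 → f (f a) = a ∧ g (f a) = -g a / Z.ψ (h a) := fun a ha => by
    have e1 : Z.x (f (f a)) * h (f a) * Z.w * Z.x (g (f a)) =
        Z.x a * ((h a)⁻¹ : Z.E) * Z.w * Z.x (-g a / Z.ψ (h a)) := by
      rw [← hB _ (f0 a ha)]
      calc _ = Z.w * (Z.x (f a) * h a * Z.w * Z.x (g a)) * (Z.x (g a))⁻¹ * Z.w * (h a : G)⁻¹ * Z.w := by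
            simp [mul_assoc, ww]
        _ = Z.x a * Z.w * (Z.x (-g a) * h a) := by
          rw [← hB a ha, Z.x_neg]; simp [mul_assoc, ww, wE', Z.w_w]
        _ = _ := by rw [Z.x_E]; simp [mul_assoc, wE]
    exact ⟨(Z.uniq e1).1, (Z.uniq e1).2.2⟩
  have R4 : ∀ a b, a ≠ 0 → b ≠ 0 → a + b ≠ 0 → g a + f b ≠ 0 ∧
      f (a + b) = f a + Z.ψ (h a) * f (g a + f b) ∧
      g (a + b) = Z.ψ (h b) * g (g a + f b) + g b := fun a b ha hb hab => by
    have e0 : Z.w * Z.x (a + b) * Z.w = Z.x (f a) * h a * (Z.w * Z.x (g a + f b) * Z.w) *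
        (h b : G)⁻¹ * Z.x (g b) := by
      calc _ = (Z.w * Z.x a * Z.w) * (Z.w * Z.x b * Z.w) := by simp [Z.x_add, mul_assoc, ww]
        _ = _ := by rw [hB a ha, hB b hb]; simp [Z.x_add, mul_assoc, wE']
    have e1 : g a + f b ≠ 0 := fun e => Z.wxw_ne hab (by
      rw [e0, e, Z.x_zero, mul_one, Z.w_w]
      simp only [mul_smul, one_smul, Z.x_ω, Z.E_ω _ (h a).2, Z.E_ω _ (inv_mem (h b).2)])
    have e2 : Z.x (f (a + b)) * h (a + b) * Z.w * Z.x (g (a + b)) =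
        Z.x (f a + Z.ψ (h a) * f (g a + f b)) * (h a * h (g a + f b) * h b : Z.E) * Z.w *
          Z.x (Z.ψ (h b) * g (g a + f b) + g b) := by
      rw [← hB _ hab, e0, hB _ e1]
      calc _ = Z.x (f a) * (h a * Z.x (f (g a + f b))) * h (g a + f b) * Z.w * (h b : G)⁻¹ *
            (h b * Z.x (g (g a + f b))) * (h b : G)⁻¹ * Z.x (g b) := by group
        _ = _ := by rw [Z.E_x, Z.E_x]; simp [Z.x_add, mul_assoc, wE']
    exact ⟨e1, (Z.uniq e2).1, (Z.uniq e2).2.2⟩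
  have c1 : ∀ a, (∃ e, Z.ψ e = a) → a * f a = f 1 := by
    rintro _ ⟨e, rfl⟩
    have := R2 e 1 one_ne_zero
    rw [mul_one] at this
    rw [this, mul_div_cancel₀ _ (Z.psi_ne e)]
  have key : ∀ b, b ≠ 0 → b * f b = f 1 := fun b hb => by
    by_contra hne
    have hbU : ¬ ∃ e, Z.ψ e = b := fun e => hne (c1 b e)
    have c2 : ∀ a, a ≠ 0 → (¬ ∃ e, Z.ψ e = a) → a * f a = b * f b := fun a ha haU => by
      obtain ⟨e, he⟩ := Z.exists_sq ha (inv_ne_zero hb) (iff_of_false haU fun ⟨e, he⟩ =>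
        hbU ⟨e⁻¹, by rw [Z.psi_inv, he, inv_inv]⟩)
      have := R2 e b hb
      rw [he, inv_mul_cancel_right₀ hb] at this
      rw [this]; field_simp
    have f1 := f0 1 one_ne_zero
    obtain ⟨s, hs⟩ : ∃ e, Z.ψ e = f 1 := by_contra fun e => hne (by
      rw [← c2 _ f1 e, (R3 1 one_ne_zero).1, mul_one])
    have m1 : ∃ e, Z.ψ e = -1 := by
      have a1 := (R3 1 one_ne_zero).2
      have a2 := R2 s (-1) (by simp)
      have a3 := f0 (-1) (by simp)
      have a4 := Z.psi_ne (h 1)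
      rw [R1 _ f1, R1 _ one_ne_zero] at a1
      rw [hs, mul_neg_one] at a2
      rw [a2] at a1
      refine ⟨h 1 * s⁻¹, ?_⟩
      rw [map_mul, Z.psi_inv, hs]
      field_simp at a1 ⊢
      linear_combination -a1
    have gf : ∀ a, a ≠ 0 → g a = f a := fun a ha => by
      obtain ⟨e, he⟩ := m1
      have := R2 e a ha
      rw [he, neg_one_mul] at this
      rw [R1 a ha, this]; field_simp
    have hh : ∀ a, a ≠ 0 → Z.ψ (h a) * a = -f a := fun a ha => by
      have a1 := R3 a ha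
      have a2 := Z.psi_ne (h a)
      rw [gf _ (f0 a ha), gf a ha, a1.1] at a1
      have a3 := a1.2
      field_simp at a3
      linear_combination a3
    have hb1 : 1 + b ≠ 0 := fun e => hbU (by
      rw [show b = -1 by linear_combination e]; exact m1)
    obtain ⟨a1, a2, a3⟩ := R4 1 b one_ne_zero hb hb1
    rw [gf 1 one_ne_zero] at a1 a2 a3
    rw [gf _ hb1, gf _ a1, gf b hb, a2] at a3
    have a4 := hh 1 one_ne_zero
    have a5 := hh b hb
    have a6 := f0 b hb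
    by_cases hU : ∃ e, Z.ψ e = f 1 + f b
    · have a7 := c1 _ hU
      refine hne (mul_left_cancel₀ a6 ?_)
      linear_combination -b * (f 1 + f b) * a3 + b * f 1 * a4 - f 1 * a5 +
        b * (Z.ψ (h 1) - Z.ψ (h b)) * a7
    · have a7 := c2 _ a1 hU
      refine hne (mul_left_cancel₀ f1 ?_)
      linear_combination -(f 1 + f b) * a3 + b * f b * a4 - f b * a5 +
        (Z.ψ (h 1) - Z.ψ (h b)) * a7
  have ff : ∀ a, a ≠ 0 → f a = f 1 / a := fun a ha => by rw [← key a ha]; field_simp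
  have gg : ∀ a, a ≠ 0 → g a = f 1 / a := fun a ha => by
    rw [R1 a ha, ff _ (neg_ne_zero.2 ha)]; field_simp
  have f1 := f0 1 one_ne_zero
  have hh : ∀ a, a ≠ 0 → Z.ψ (h a) = f 1 / a * (-1 / a) := fun a ha => by
    have a1 := (R3 a ha).2
    have a2 := Z.psi_ne (h a)
    rw [gg _ (f0 a ha), gg a ha, ff a ha] at a1
    field_simp at a1 ⊢
    linear_combination a1
  have h1 : -Z.ψ (h 1) = f 1 := by rw [hh 1 one_ne_zero]; simp
  refine ⟨h 1, fun a ha => ⟨h a, by rw [h1, hh a ha], by rw [h1, hB a ha, ff a ha, gg a ha]⟩⟩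

include Z in
theorem nonempty_equiv [Finite G] [Fintype F]
    (hG : 2 * Nat.card G + Fintype.card F = Fintype.card F ^ 3) :
    Nonempty (G ≃* Matrix.ProjectiveSpecialLinearGroup (Fin 2) F) := by
  classical
  obtain ⟨ρ, hρ⟩ := Z.exists_wxw
  have H : ∀ a : F, ∃ e : Z.E, a ≠ 0 → Z.ψ e = a ^ 2 := fun a => by
    by_cases ha : a = 0
    · exact ⟨1, fun h => absurd ha h⟩
    · obtain ⟨e, he⟩ := Z.exists_sq ha ha Iff.rfl
      exact ⟨e, fun _ => by rw [he, pow_two]⟩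
  choose D hD using H
  have hρ0 := Z.psi_ne ρ
  have ww : Z.w * ρ * (Z.w * ρ) = 1 := by
    rw [mul_assoc, ← mul_assoc (ρ : G), ← inv_inv (ρ : G), ← Z.w_E _ (inv_mem ρ.2)]
    simp [Z.w_w]
  have hD1 : ∀ a, a ^ 2 = 1 → D a = 1 := fun a ha => Z.inj (by
    rw [hD a (by rintro rfl; simp at ha), ha, map_one])
  let S : Chev.SL2Rel F G :=
    { x := Z.x
      y := fun s => Z.w * ρ * Z.x (-s) * (Z.w * ρ)
      h := fun a => D a
      w := Z.w * ρ
      x_add := fun a b => (Z.x_add a b).symm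
      x_zero := Z.x_zero
      h_mul := fun a b ha hb => by
        rw [← coe_mul]
        congr 1
        exact Z.inj (by rw [map_mul, hD a ha, hD b hb, hD _ (mul_ne_zero ha hb), mul_pow])
      h_one := by simp [hD1 1 (by simp)]
      n_eq := fun t ht => by
        obtain ⟨e, he, h⟩ := hρ (Z.ψ ρ * t⁻¹) (mul_ne_zero hρ0 (inv_ne_zero ht))
        have e1 : -Z.ψ ρ / (Z.ψ ρ * t⁻¹) = -t := by field_simp
        rw [e1] at he h
        have e2 : D t = e * ρ := Z.inj (by rw [hD t ht, map_mul, he]; field_simp)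
        have e3 : Z.w * ρ * Z.x (- -t⁻¹) * (Z.w * ρ) = Z.w * Z.x (Z.ψ ρ * t⁻¹) * Z.w := by
          rw [neg_neg, mul_assoc Z.w, Z.E_x, Z.w_E ρ ρ.2]; group
        rw [e3, h, e2, Z.x_neg, Z.w_E ρ ρ.2, coe_mul]
        group
      y_zero := by simp only [neg_zero, Z.x_zero, mul_one, ww]
      h_x := fun a s ha => by rw [Z.E_x, hD a ha]
      w_h := fun a ha => by
        have e1 : D a⁻¹ = (D a)⁻¹ := Z.inj (by
          rw [Z.psi_inv, hD a ha, hD _ (inv_ne_zero ha), inv_pow])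
        have e2 : ρ * D a = D a * ρ := Z.inj (by rw [map_mul, map_mul, mul_comm])
        rw [e1, mul_assoc, ← coe_mul, e2, coe_mul, ← mul_assoc, Z.w_E _ (D a).2, coe_inv, mul_assoc]
      w_w := by simp [ww, hD1 (-1) (by simp)]
      w_x := fun s => by rw [neg_neg, mul_assoc _ (Z.w * ρ), ww, mul_one] }
  have hq : Odd (Fintype.card F) := ⟨Nat.card Z.E, by rw [Z.card, Nat.card_eq_fintype_card]⟩
  have hx : ∀ a, Z.x a ∈ S.hom.range := fun a => ⟨_, S.hom_uu a⟩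
  have hw : Z.w * ρ ∈ S.hom.range := ⟨_, S.hom_ww⟩
  have hDm : ∀ a, a ≠ 0 → (D a : G) ∈ S.hom.range := fun a ha => by
    have h1 : (D a : G) = Z.x a * (Z.w * ρ * Z.x (- -a⁻¹) * (Z.w * ρ)) * Z.x a * (Z.w * ρ)⁻¹ :=
      eq_mul_inv_of_mul_eq (S.n_eq a ha).symm
    rw [h1]
    exact mul_mem (mul_mem (mul_mem (hx _) (mul_mem (mul_mem hw (hx _)) hw)) (hx _)) (inv_mem hw)
  have hE : ∀ e : Z.E, (e : G) ∈ S.hom.range := fun e => by
    have h1 : IsSquare (Z.ψ e) := by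
      rw [FiniteField.isSquare_iff (fun h => by
        have := FiniteField.even_card_of_char_two h
        have := Nat.odd_iff.1 hq
        omega) (Z.psi_ne e), ← map_pow, show Fintype.card F / 2 = Nat.card Z.E by
          rw [← Nat.card_eq_fintype_card, ← Z.card]; omega, pow_card_eq_one', map_one]
    obtain ⟨a, ha⟩ := h1
    have ha0 : a ≠ 0 := by rintro rfl; exact Z.psi_ne e (by simpa using ha)
    rw [show e = D a from Z.inj (by rw [hD a ha0, ha, pow_two])]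
    exact hDm a ha0
  have hw' : Z.w ∈ S.hom.range := by simpa using mul_mem hw (inv_mem (hE ρ))
  have hs : Function.Surjective S.hom := fun g => by
    by_cases hg : g • Z.ω = Z.ω
    · obtain ⟨a, e, he, rfl⟩ := Z.stab g hg
      exact mul_mem (hx a) (hE ⟨e, he⟩)
    · obtain ⟨u, e, v, rfl⟩ := Z.exists_big hg
      exact mul_mem (mul_mem (mul_mem (hx u) (hE e)) hw') (hx v)
  have hk : center (Matrix.SpecialLinearGroup (Fin 2) F) ≤ S.hom.ker := fun g hg => by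
    rcases (Cl.sl2_mem_center_iff g).1 hg with rfl | rfl
    · exact one_mem _
    · have : (-1 : Matrix.SpecialLinearGroup (Fin 2) F) = Chev.SL2Rel.ww F * Chev.SL2Rel.ww F := by
        ext i j
        rw [Matrix.SpecialLinearGroup.coe_mul, Chev.SL2Rel.ww_coe]
        fin_cases i <;> fin_cases j <;> simp
      rw [MonoidHom.mem_ker, this, map_mul, S.hom_ww]
      exact ww
  let φ : Matrix.ProjectiveSpecialLinearGroup (Fin 2) F →* G := QuotientGroup.lift _ S.hom hk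
  have hφ : Function.Surjective φ := fun g => by
    obtain ⟨A, rfl⟩ := hs g
    exact ⟨QuotientGroup.mk A, rfl⟩
  have hc := Cl.card_psl_two_of_odd rfl hq
  refine ⟨(MulEquiv.ofBijective φ (hφ.bijective_of_nat_card_le (le_of_eq ?_))).symm⟩
  obtain ⟨m, hm⟩ := hq
  rw [hm] at hG hc
  rw [Nat.add_sub_cancel] at hc
  nlinarith

end ZData

end Cfsg.Agent.Cls
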