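import Cfsg.Agent.Cls.BSW5
import Cfsg.Agent.Cls.PSL2Rec
import Cfsg.Agent.Cl.SimpleUniq
import Cfsg.Agent.Cl.Congr

/-! The Brauer–Suzuki–Wall theorem, part 6: the doubly transitive action and the conclusion. -/

set_option autoImplicit false
set_option linter.unusedSectionVars false
set_option linter.unusedVariables false

namespace Cfsg.Agent.Cls

open Cfsg Subgroup Cfsg.Agent.GT MulAction
open scoped commutatorElement

universe u

variable {G : Type u} [Group G] [Finite G] {p q : ℕ} {H : Subgroup G} {t : G}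

theorem exists_field_of_minNormal {P E : Subgroup G} (hP : IsMulCommutative P)
    (hE : IsMulCommutative E) (h : MinNormal P E) :
    ∃ (F : Type u) (_ : Field F) (_ : Finite F) (x : F → G) (ψ : E →* F),
      (∀ a b, x (a + b) = x a * x b) ∧ Function.Injective x ∧ (∀ a, x a ∈ P) ∧
      (∀ y ∈ P, ∃ a, x a = y) ∧ ∀ (e : E) a, e * x a = x (ψ e * a) * e := by
  obtain ⟨F, _, _, ι, hι, hr⟩ := h.exists_field
  have h1 : ∀ e : E, ∃ k, ι k = conjEnd P ⟨e, h.norm e.2⟩ := fun e => (hr _).2 fun b hb => by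
    rw [Commute, SemiconjBy, ← map_mul, ← map_mul]
    congr 1
    exact Subtype.ext (isMulCommutative_iff_forall.1 hE e e.2 b hb)
  choose ψ hψ using h1
  obtain ⟨v, hv, hv1⟩ := (bot_or_exists_ne_one P).resolve_left h.ne_bot
  have hv0 : AbV.mk v hv ≠ 0 := fun e => hv1 (AbV.val_eq_one.2 e)
  let L : F →+ AbV P := AddMonoidHom.mk' (fun k => ι k (AbV.mk v hv)) fun a b => by simp
  have hL : Function.Injective L := (injective_iff_map_eq_zero L).2 fun k hk => by
    by_contra hk0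
    have : ι (k⁻¹ * k) (AbV.mk v hv) = 0 := by
      rw [map_mul, Module.End.mul_apply, show ι k (AbV.mk v hv) = 0 from hk, map_zero]
    rw [inv_mul_cancel₀ hk0, map_one] at this
    exact hv0 this
  have hc : ∀ (e : E) a, conjEnd P ⟨e, h.norm e.2⟩ (L a) = L (ψ e * a) := fun e a => by
    rw [← hψ]; simp [L]
  have hs : L.toIntLinearMap.range = ⊤ := by
    refine (h.submodule_eq _ ?_).resolve_left fun e => hv0 ?_
    · rintro a ha _ ⟨k, rfl⟩
      exact ⟨_, (hc ⟨a, ha⟩ k).symm⟩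
    · rw [← Submodule.mem_bot ℤ, ← e]
      exact ⟨1, by simp [L]⟩
  refine ⟨F, inferInstance, inferInstance, fun k => (L k).val,
    ⟨⟨ψ, hι (by rw [hψ, map_one]; exact map_one _)⟩, fun a b => hι (by
      rw [map_mul, hψ, hψ, hψ, ← map_mul]; rfl)⟩,
    fun a b => by simp only [map_add, AbV.val_add], AbV.val_injective.comp hL, fun a => AbV.val_mem _,
    fun y hy => ?_, fun e a => ?_⟩
  · obtain ⟨k, hk⟩ : AbV.mk y hy ∈ L.toIntLinearMap.range := hs ▸ Submodule.mem_top
    exact ⟨k, congrArg AbV.val hk⟩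
  · have := congrArg AbV.val (hc e a)
    rw [val_conjEnd] at this
    exact mul_inv_eq_iff_eq_mul.1 this

theorem BSW.exists_weyl (h : BSW H t) {E P : Subgroup G} (hq : q = 2 * Nat.card H + 1 ∨
    q + 1 = 2 * Nat.card H) (hE : 2 * Nat.card E + 1 = q) (hn : E ≤ N[P]) (hC : E ⊓ C[P] = ⊥)
    (hr : Semiregular P E) {w : G} (hw : w ∈ N[E]) (hw' : w ∉ E) (hw2 : w * w ∈ E) :
    ∃ e ∈ E, w * e * (w * e) = 1 ∧ ∀ y ∈ E, w * e * y * (w * e)⁻¹ = y⁻¹ := by
  have hH : 2 ∣ Nat.card H := by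
    rw [← orderOf_eq_prime (show t ^ 2 = 1 by rw [pow_two, h.sq]) h.ne]
    exact H.orderOf_dvd_natCard h.mem
  rcases hq with hq | hq
  · obtain ⟨⟨u, hu⟩, hu2⟩ := exists_prime_orderOf_dvd_card' (G := E) 2 (by omega)
    rw [← orderOf_coe] at hu2
    simp only at hu2
    have hu1 : u ≠ 1 := fun e => by rw [e, orderOf_one] at hu2; omega
    have hu2' : u * u = 1 := by rw [← pow_two, ← hu2, pow_orderOf_eq_one]
    have uniq : ∀ v ∈ E, v * v = 1 → v ≠ 1 → v = u := fun v hv hv2 hv1 => by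
      have : u * v ∈ E ⊓ C[P] := ⟨E.mul_mem hu hv, fun y hy => by
        have h1 := conj_eq_inv_of_fpf (hn hv) (by rwa [pow_two]) (hr v hv hv1) hy
        have h2 := conj_eq_inv_of_fpf (hn hu) (by rwa [pow_two]) (hr u hu hu1) (inv_mem hy)
        rw [← h1] at h2
        calc y * (u * v) = (v * y * v⁻¹)⁻¹⁻¹⁻¹ * (u * v) := by rw [h1]; simp
          _ = u * v * y := by rw [inv_inv, ← h2]; group⟩
      rw [hC, mem_bot, ← hu2', mul_right_inj] at this
      exact this
    have cen : ∀ g ∈ N[E], g * u * g⁻¹ = u := fun g hg => uniq _ (conj_mem_of_mem_norm hg hu)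
      (by rw [show g * u * g⁻¹ * (g * u * g⁻¹) = g * (u * u) * g⁻¹ by group, hu2']; simp)
      fun e => hu1 (conj_eq_one_iff.1 e)
    obtain ⟨c, hc⟩ := isConj_iff.1 (h.fus u hu2' hu1)
    have cen' : ∀ g ∈ N[E], c⁻¹ * g * c ∈ C1[t] := fun g hg => by
      rw [mem_cent1]
      calc c⁻¹ * g * c * t = c⁻¹ * (g * (c * t * c⁻¹) * g⁻¹) * g * c := by group
        _ = t * (c⁻¹ * g * c) := by rw [hc, cen g hg, ← hc]; group
    have hle : cj[c⁻¹] E ≤ H := by
      rintro _ ⟨e, he, rfl⟩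
      simp only [MulEquiv.toMonoidHom_eq_coe, MonoidHom.coe_coe, MulAut.conj_apply, inv_inv]
      by_contra hne
      have h1 := h.inv _ (cen' e (le_normalizer he)) hne
      have h2 := uniq e he (by
        rwa [show c⁻¹ * e * c * (c⁻¹ * e * c) = c⁻¹ * (e * e) * c⁻¹⁻¹ by group,
          conj_eq_one_iff] at h1) fun e1 => hne (by simp [e1])
      exact hne (by rw [h2, ← hc, show c⁻¹ * (c * t * c⁻¹) * c = t by group]; exact h.mem)
    have heq : cj[c⁻¹] E = H := eq_of_le_of_card_ge hle (by rw [card_conj]; omega)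
    have hwH : c⁻¹ * w * c ∉ H := fun e => hw' (by
      rw [← heq, mem_conj] at e
      simpa [mul_assoc] using e)
    refine ⟨1, one_mem _, ?_, fun y hy => ?_⟩
    · have := h.inv _ (cen' w hw) hwH
      rwa [show c⁻¹ * w * c * (c⁻¹ * w * c) = c⁻¹ * (w * 1 * (w * 1)) * c⁻¹⁻¹ by group,
        conj_eq_one_iff] at this
    · have := h.conj_eq_inv (cen' w hw) hwH (y := c⁻¹ * y⁻¹ * c)
        (hle ⟨y⁻¹, inv_mem hy, by simp⟩)
      calc w * 1 * y * (w * 1)⁻¹ = w * c * (c⁻¹ * y⁻¹ * c)⁻¹ * c⁻¹ * w⁻¹ := by group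
        _ = y⁻¹ := by rw [← this]; group
  · obtain ⟨j, hj⟩ : Odd (Nat.card E) := Nat.odd_iff.2 (by omega)
    have h1 : w * (w * w) ^ j * (w * (w * w) ^ j) = 1 := by
      have := pow_card_eq_one' (x := (⟨w * w, hw2⟩ : E))
      rw [hj, Subtype.ext_iff, coe_pow, OneMemClass.coe_one] at this
      rw [← this]
      simp only [← pow_two, ← pow_mul, ← pow_succ']
      congr 1; ring
    have h2 : w * (w * w) ^ j ≠ 1 := fun e => hw' (by
      rw [eq_inv_of_mul_eq_one_left e]; exact inv_mem (pow_mem hw2 j))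
    refine ⟨(w * w) ^ j, pow_mem hw2 j, h1, fun y hy => conj_eq_inv_of_fpf
      (mul_mem hw (le_normalizer (pow_mem hw2 j))) (by rwa [pow_two]) ?_ hy⟩
    obtain ⟨c, hc⟩ := isConj_iff.1 (h.fus _ h1 h2)
    refine GT.inf_eq_bot_of_coprime ?_
    rw [← hc, ← conj_cent1, card_conj, h.card, show Nat.card H = Nat.card E + 1 by omega]
    exact Nat.Coprime.mul_right (Nat.coprime_two_right.2 ⟨j, hj⟩) (by simp)

theorem BSWLoc.nonempty_equiv (h : BSW H t) (hl : BSWLoc G q)
    (hq : q = 2 * Nat.card H + 1 ∨ q + 1 = 2 * Nat.card H) :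
    ∃ (F : Type u) (_ : Field F) (_ : Fintype F), Odd (Fintype.card F) ∧
      Nonempty (G ≃* Matrix.ProjectiveSpecialLinearGroup (Fin 2) F) := by
  classical
  obtain ⟨p, a, hp, hqa⟩ := hl.exists_cpExp
  have := Fact.mk hp.prime
  have h3 := hl.three_le
  have hpq : p ∣ q := by
    rw [hqa]; exact dvd_pow_self p (by rintro rfl; simp at hqa; omega)
  have hyq : ∀ (P : Sylow p G), ∀ y ∈ P, y ^ q = 1 := fun P y hy => orderOf_dvd_iff_pow_eq_one.1
    ((orderOf_dvd_of_pow_eq_one (hp.pow_eq P.isPGroup' hy)).trans hpq)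
  have hTI : ∀ P Q : Sylow p G, Q ≠ P → ((P : Subgroup G) ⊓ Q : Subgroup G) = ⊥ := fun P Q hne =>
    by_contra fun e => hne (Sylow.ext (hp.syl_eq (syl_top_of_sylow hp.prime P)
      (syl_top_of_sylow hp.prime Q) e).symm)
  have hcard : ∀ P : Sylow p G, Nat.card P = q := fun P => by
    obtain ⟨y, hy, hy1⟩ := (bot_or_exists_ne_one _).resolve_left (PG.center_ne_bot P.isPGroup'
      (P.ne_bot_of_dvd_card (hpq.trans hl.dvd_card)))
    rw [← hl.cent y hy1 (hyq P y hy.1), P.is_maximal' (hp.cent y hy1 (hp.pow_eq P.isPGroup' hy.1))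
      (mem_cent_iff_le_cent1.1 hy.2)]
  have hcent : ∀ (P : Sylow p G), ∀ y ∈ P, y ≠ 1 → C1[y] = P := fun P y hy hy1 => by
    obtain ⟨Q, hQ⟩ := (hp.cent y hy1 (hp.pow_eq P.isPGroup' hy)).exists_le_sylow
    have : Q = P := by_contra fun e =>
      hy1 (mem_bot.1 (hTI P Q e ▸ mem_inf.2 ⟨hy, hQ (self_mem_cent1 y)⟩))
    subst this
    exact eq_of_le_of_card_ge hQ (by rw [hl.cent y hy1 (hyq Q y hy), hcard])
  have hn : Nat.card (Sylow p G) = q + 1 := by
    have := Fintype.ofFinite (Sylow p G)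
    have e1 : Nat.card (Σ P : Sylow p G, {y : (P : Subgroup G) // y ≠ 1}) = Nat.card {y : G // y ≠ 1 ∧ y ^ q = 1} := by
      refine Nat.card_congr (Equiv.ofBijective (fun z => ⟨z.2.1, fun e => z.2.2 (Subtype.ext e),
        hyq _ _ z.2.1.2⟩) ⟨?_, ?_⟩)
      · rintro ⟨P, ⟨y, hy⟩, hy1⟩ ⟨Q, ⟨z, hz⟩, hz1⟩ e
        obtain rfl : y = z := congrArg Subtype.val e
        obtain rfl : P = Q := by_contra fun e => hy1 (Subtype.ext
          (mem_bot.1 (hTI Q P e ▸ mem_inf.2 ⟨hz, hy⟩)))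
        rfl
      · rintro ⟨y, hy1, hy⟩
        obtain ⟨P, hP⟩ := (PG.isPGroup_zpowers_of_pow_eq_one (hqa ▸ hy)).exists_le_sylow
        exact ⟨⟨P, ⟨y, hP (mem_zpowers y)⟩, fun e => hy1 (Subtype.ext_iff.1 e)⟩, rfl⟩
    have e2 : ∀ P : Sylow p G, Nat.card {y : (P : Subgroup G) // y ≠ 1} = q - 1 := fun P => by
      have := Fintype.ofFinite (P : Subgroup G)
      rw [Nat.card_eq_fintype_card, Fintype.card_subtype_compl, Fintype.card_subtype_eq,
        ← Nat.card_eq_fintype_card, hcard]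
    have e3 := hl.count
    rw [← e1, Nat.card_sigma] at e3
    simp only [e2, Finset.sum_const, Finset.card_univ, smul_eq_mul, ← Nat.card_eq_fintype_card] at e3
    obtain ⟨m, rfl⟩ : ∃ m, q = m + 1 := ⟨q - 1, by omega⟩
    rw [Nat.add_sub_cancel] at e3
    exact Nat.eq_of_mul_eq_mul_right (show 0 < m by omega) (by nlinarith)
  obtain ⟨P, Q, hPQ⟩ := (Finite.one_lt_card_iff_nontrivial.1
    (show 1 < Nat.card (Sylow p G) by omega)).exists_pair_ne
  have reg0 : ∀ P Q : Sylow p G, Q ≠ P → ∀ y, y ≠ P → ∃ z ∈ P, z • Q = y := fun P Q hne y hy => by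
    obtain ⟨z, hz, -⟩ := Cl.existsUnique_smul_sylow hne (hTI P Q hne) (x := ((↑) : ↥(P : Subgroup G) → G))
      Subtype.val_injective (fun z => z.2) (by rw [hn, hcard]) y hy
    exact ⟨z, z.2, hz⟩
  set E := stabilizer G P ⊓ stabilizer G Q with hE
  have hEc : 2 * Nat.card E + 1 = q := by
    have e1 := Cl.card_stabilizer_inf hPQ.symm fun y hy => by
      obtain ⟨z, hz, hz'⟩ := reg0 P Q hPQ.symm y hy
      exact ⟨z, Cl.smul_sylow_self hz, hz'⟩
    have e2 := (stabilizer G P).card_mul_index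
    rw [Sylow.stabilizer_eq_normalizer, ← Sylow.card_eq_index_normalizer,
      ← Sylow.stabilizer_eq_normalizer, ← e1, hn, Nat.add_sub_cancel, ← hE] at e2
    have e3 := hl.card
    rw [← e2] at e3
    refine Nat.eq_of_mul_eq_mul_left (show 0 < q * (q + 1) by positivity) ?_
    nlinarith
  have hEn : E ≤ N[(P : Subgroup G)] := fun e he => Sylow.smul_eq_iff_mem_normalizer.1 he.1
  have hEP : ∀ e ∈ E, e ∈ P → e = 1 := fun e he heP =>
    Cl.eq_one_of_smul_sylow_eq (hTI P Q hPQ.symm) heP he.2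
  have hr : Semiregular (P : Subgroup G) E := semiregular_iff.2 fun e he he1 y hy e1 => by
    by_contra hy1
    exact he1 (hEP e he (by
      have : e ∈ C1[y] := mem_cent1.2 e1.symm
      rwa [hcent P y hy hy1] at this))
  have hP1 := P.ne_bot_of_dvd_card (hpq.trans hl.dvd_card)
  have hPc : IsMulCommutative (P : Subgroup G) := isMulCommutative_iff_forall.2 fun x hx y hy => by
    by_cases hy1 : y = 1
    · simp [hy1]
    · exact mem_cent1.1 (by rw [hcent P y hy hy1]; exact hx)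
  obtain ⟨w, hw1, hw2⟩ : ∃ w : G, w • P = Q ∧ w • Q = P := by
    obtain ⟨g, hg⟩ := exists_smul_eq G P Q
    have : g • Q ≠ Q := fun e => hPQ (smul_left_cancel g (hg.trans e.symm))
    obtain ⟨z, hz, hz'⟩ := reg0 Q _ this P hPQ
    exact ⟨z * g, by rw [mul_smul, hg, Cl.smul_sylow_self hz], by rw [mul_smul, hz']⟩
  obtain ⟨e, he, hww, hwE⟩ := h.exists_weyl hq hEc hEn (hr.symm.inf_cent le_rfl hP1) hr (w := w)
    (mem_normalizer_of_conj_le (by
      rintro _ ⟨e, he, rfl⟩
      simp only [MulEquiv.toMonoidHom_eq_coe, MonoidHom.coe_coe, MulAut.conj_apply]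
      refine ⟨?_, ?_⟩
      · show (w * e * w⁻¹) • P = P
        rw [mul_smul, mul_smul, inv_smul_eq_iff.2 hw2.symm, he.2, hw2]
      · show (w * e * w⁻¹) • Q = Q
        rw [mul_smul, mul_smul, inv_smul_eq_iff.2 hw1.symm, he.1, hw1]))
    (fun e => hPQ (e.1.symm.trans hw1))
    ⟨show (w * w) • P = P by rw [mul_smul, hw1, hw2], show (w * w) • Q = Q by rw [mul_smul, hw2, hw1]⟩
  have hEcomm : IsMulCommutative E := isMulCommutative_iff_forall.2 fun x hx y hy => by
    have := hwE _ (mul_mem hx hy)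
    rw [show w * e * (x * y) * (w * e)⁻¹ = (w * e * x * (w * e)⁻¹) * (w * e * y * (w * e)⁻¹) by group,
      hwE x hx, hwE y hy, ← mul_inv_rev, inv_inj] at this
    exact this.symm
  have hmin : MinNormal (P : Subgroup G) E := ⟨hP1, hEn, fun W hW hWn => by
    by_contra hno
    simp only [not_or] at hno
    obtain ⟨j, hj⟩ := PF.semiregular_card_dvd (hr.mono hW le_rfl) hWn
    have h1 := one_lt_card_iff_ne_bot W |>.2 hno.1
    have h2 := card_lt_of_lt (lt_of_le_of_ne hW hno.2)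
    obtain ⟨k, hk⟩ := card_dvd_of_le hW
    have h4 := hcard P
    have h5 : Nat.card W = Nat.card E * j + 1 := by omega
    change Nat.card (P : Subgroup G) = q at h4
    rw [h4, ← hEc, h5] at h2 hk
    have h6 : j = 1 := by
      rcases j with _ | _ | j
      · omega
      · rfl
      · nlinarith
    subst h6
    rcases k with _ | _ | k
    · omega
    · omega
    · nlinarith⟩
  obtain ⟨F, _, _, x, ψ, hadd, hinj, hxP, hsurj, hconj⟩ := exists_field_of_minNormal hPc hEcomm hmin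
  have := Fintype.ofFinite F
  have hF : Nat.card F = q := by
    rw [← hcard P]
    exact Nat.card_congr (Equiv.ofBijective (fun a => ⟨x a, hxP a⟩)
      ⟨fun a b e => hinj (Subtype.ext_iff.1 e), fun y => by
        obtain ⟨a, ha⟩ := hsurj y y.2; exact ⟨a, Subtype.ext ha⟩⟩)
  let Z : ZData G (Sylow p G) F :=
    { ω := P
      o := Q
      x := x
      E := E
      ψ := ψ
      w := w * e
      ne := hPQ.symm
      x_add := hadd
      x_ω := fun a => Cl.smul_sylow_self (hxP a)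
      E_ω := fun e he => he.1
      E_o := fun e he => he.2
      w_ω := by rw [mul_smul, he.1, hw1]
      w_w := hww
      w_E := fun y hy => mul_inv_eq_iff_eq_mul.1 (hwE y hy)
      E_x := hconj
      reg := Cl.existsUnique_smul_sylow hPQ.symm (hTI P Q hPQ.symm) hinj hxP (by rw [hn, hF])
      stab := fun g hg => by
        obtain ⟨z, hz, hz'⟩ := reg0 P Q hPQ.symm (g • Q) fun e =>
          hPQ (smul_left_cancel g (hg.trans e.symm))
        obtain ⟨a, rfl⟩ := hsurj z hz
        refine ⟨a, (x a)⁻¹ * g, ⟨?_, ?_⟩, by group⟩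
        · show ((x a)⁻¹ * g) • P = P
          rw [mul_smul, hg, Cl.smul_sylow_self (inv_mem hz)]
        · show ((x a)⁻¹ * g) • Q = Q
          rw [mul_smul, ← hz', inv_smul_smul]
      inj := (injective_iff_map_eq_one ψ).2 fun y hy => by
        have : (y : G) ∈ E ⊓ C[(P : Subgroup G)] := ⟨y.2, fun z hz => by
          obtain ⟨a, rfl⟩ := hsurj z hz
          rw [hconj, hy, one_mul]⟩
        rw [hr.symm.inf_cent le_rfl hP1] at this
        exact Subtype.ext this
      card := hEc.trans hF.symm }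
  rw [Nat.card_eq_fintype_card] at hF
  exact ⟨F, inferInstance, inferInstance, hF ▸ hl.odd, Z.nonempty_equiv (hF ▸ hl.card)⟩

/-- The Brauer–Suzuki–Wall theorem. -/
theorem BSW.psl2 [IsSimpleGroup G] (h : BSW H t) (hG : ¬ IsMulCommutative G) :
    ∃ (F : Type) (_ : Field F) (_ : Fintype F), Odd (Fintype.card F) ∧
      Nonempty (G ≃* Matrix.ProjectiveSpecialLinearGroup (Fin 2) F) := by
  have := Fintype.ofFinite G
  have := Fintype.ofFinite H
  by_cases hr : ∀ l, IsIrrCharacter H l → conjFun l = l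
  · have := Fact.mk (by norm_num : Nat.Prime 5)
    obtain ⟨e⟩ := Cl.simple_card_sixty (h.card_sixty hG hr)
    have := Matrix.ProjectiveSpecialLinearGroup.rank_two_simple (F := ZMod 5) (by simp)
    obtain ⟨e'⟩ := Cl.simple_card_sixty (G := Matrix.ProjectiveSpecialLinearGroup (Fin 2) (ZMod 5))
      (by have := Cl.card_psl_two_of_odd (ZMod.card 5) (by decide); omega)
    exact ⟨ZMod 5, inferInstance, inferInstance, by decide, ⟨e.trans e'.symm⟩⟩
  push Not at hr
  obtain ⟨l, hl, hr⟩ := hr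
  obtain ⟨q, hq, hq'⟩ := h.exists_loc hl hr
  obtain ⟨F, _, _, ho, ⟨e⟩⟩ := hq.nonempty_equiv h hq'
  obtain ⟨p, _⟩ := CharP.exists F
  obtain ⟨n, hp, hn⟩ := FiniteField.card F p
  have := Fact.mk hp
  have := Fintype.ofFinite (GaloisField p n)
  have hc : Fintype.card F = Fintype.card (GaloisField p n) := by
    rw [hn, ← Nat.card_eq_fintype_card, GaloisField.card p n n.ne_zero]
  exact ⟨GaloisField p n, inferInstance, inferInstance, hc ▸ ho,
    ⟨e.trans (Cl.pslCongr (FiniteField.ringEquivOfCardEq hc))⟩⟩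

end Cfsg.Agent.Cls
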