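import Cfsg.Agent.Cls.BSW6
import Cfsg.Agent.Cls.Dihedral

/-! The Brauer–Suzuki–Wall theorem for groups with dihedral Sylow 2-subgroups. -/

set_option autoImplicit false
set_option linter.unusedSectionVars false
set_option linter.unusedVariables false

namespace Cfsg.Agent.Cls

open Cfsg Subgroup Cfsg.Agent.GT

universe u

variable {G : Type u} [Group G] [Finite G] {A B O S : Subgroup G} {t : G}

theorem Dih.bsw [IsSimpleGroup G] (h : Dih S A) (hG : ¬ IsMulCommutative G)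
    (hS : IsPiHallOf {2} S ⊤) (ht : orderOf t = 2) (htA : t ∈ A) (htZ : S ≤ C1[t])
    (hO : O = piCoreOf {2}ᶜ C1[t]) (ha : A ≤ C[O])
    (hb : ∀ s ∈ S, s ∉ A → ∀ y ∈ O, s * y * s⁻¹ = y⁻¹)
    (hc : ∀ y ∈ O, y ≠ 1 → C1[y] ≤ C1[t]) : BSW (O ⊔ A) t := by
  have hH := h.hall_cent hS ht
  have hd := sdprod_piCoreOf_of_hall hH (syl_of_le hS htZ le_top)
  rw [← hO] at hH hd
  have hd' := hd.subr h.le
  have ht2 : t * t = 1 := by rw [← pow_two, ← ht, pow_orderOf_eq_one]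
  have ht1 : t ≠ 1 := fun e => by rw [e, orderOf_one] at ht; omega
  have hle : O ⊔ A ≤ C1[t] := sup_le hd.left_le (h.le.trans htZ)
  have hOc : IsMulCommutative O := by
    obtain ⟨s, hs, hs'⟩ := SetLike.exists_of_lt (lt_of_le_of_ne h.le fun e => by
      have := h.card
      have := card_pos' A
      rw [e] at *; omega)
    refine isMulCommutative_iff_forall.2 fun x hx y hy => ?_
    have := hb s hs hs' _ (mul_mem hx hy)
    rw [show s * (x * y) * s⁻¹ = (s * x * s⁻¹) * (s * y * s⁻¹) by group, hb s hs hs' x hx,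
      hb s hs hs' y hy, ← mul_inv_rev, inv_inj] at this
    exact this.symm
  have hcomm := isMulCommutative_iff_forall.1 (isMulCommutative_sup hOc
    (isMulCommutative_of_isCyclic h.cyc) (le_cent_symm ha))
  have odd1 : ∀ y ∈ O, y * y = 1 → y = 1 := fun y hy e => by
    by_contra hne
    exact (isPiSubgroup_single_compl_iff Nat.prime_two).1 hH.isPi
      (orderOf_eq_prime (show y ^ 2 = 1 by rwa [pow_two]) hne ▸ O.orderOf_dvd_natCard hy)
  have uniq : ∀ y ∈ O ⊔ A, y * y = 1 → y = 1 ∨ y = t := fun y hy e => by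
    obtain ⟨o, ho, a, ha', rfl⟩ := hd'.exists_mul hy
    have e1 : o * o * (a * a) = 1 := by
      rw [← e, mul_assoc, mul_assoc, ← mul_assoc o a, ← mul_assoc a o, ha ha' o ho]
    have e2 : o * o ∈ O ⊓ A := ⟨O.mul_mem ho ho, by
      rw [eq_inv_of_mul_eq_one_left e1]; exact A.inv_mem (A.mul_mem ha' ha')⟩
    rw [hd'.inf_eq, mem_bot] at e2
    obtain rfl := odd1 o ho e2
    rw [one_mul] at e ⊢
    exact or_iff_not_imp_left.2 (eq_of_sq_of_isCyclic h.cyc ha' htA e ht2 · ht1)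
  have inv : ∀ s ∈ C1[t], s ∉ O ⊔ A → s * s = 1 ∧ ∀ y ∈ O, s * y * s⁻¹ = y⁻¹ := fun s hs hs' => by
    obtain ⟨o, ho, a, ha', rfl⟩ := hd.exists_mul hs
    have h1 : a ∉ A := fun e => hs' (mul_mem (mem_sup_left ho) (mem_sup_right e))
    refine ⟨?_, fun y hy => ?_⟩
    · rw [show o * a * (o * a) = o * (a * o * a⁻¹) * a ^ 2 by group, hb a ha' h1 o ho, h.sq a ha' h1]
      simp
    · rw [show o * a * y * (o * a)⁻¹ = o * (a * y * a⁻¹) * o⁻¹ by group, hb a ha' h1 y hy,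
        isMulCommutative_iff_forall.1 hOc o ho _ (inv_mem hy), mul_inv_cancel_right]
  have cj2 : ∀ g : G, g⁻¹ * t * g * (g⁻¹ * t * g) = 1 ∧ g⁻¹ * t * g ≠ 1 := fun g =>
    ⟨by rw [show g⁻¹ * t * g * (g⁻¹ * t * g) = g⁻¹ * (t * t) * g by group, ht2]; simp, fun e => ht1 (by
      rwa [show g⁻¹ * t * g = g⁻¹ * t * g⁻¹⁻¹ by rw [inv_inv], conj_eq_one_iff] at e)⟩
  have fin : ∀ g : G, g⁻¹ * t * g ∈ O ⊔ A → g ∈ C1[t] := fun g hg => by
    have := (uniq _ hg (cj2 g).1).resolve_left (cj2 g).2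
    rw [mul_assoc, inv_mul_eq_iff_eq_mul] at this
    exact mem_cent1.2 this.symm
  refine ⟨hcomm, mem_sup_right htA, ht2, ht1, uniq, ?_, fun s hs hs' => (inv s hs hs').1,
    fun y hy hy1 g hg => fin g ?_, fun u hu hu1 => ?_⟩
  · rw [← hd.card_mul, ← hd'.card_mul, h.card]; ring
  · rcases Nat.even_or_odd (orderOf y) with ⟨k, hk⟩ | ho
    · have h0 := orderOf_pos y
      have h1 : y ^ k * y ^ k = 1 := by rw [← pow_add, ← hk, pow_orderOf_eq_one]
      have h2 := (uniq _ (pow_mem hy k) h1).resolve_left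
        (pow_ne_one_of_lt_orderOf (by omega) (by omega))
      rw [← h2, show g⁻¹ * y ^ k * g = (g⁻¹ * y * g⁻¹⁻¹) ^ k by rw [conj_pow, inv_inv], inv_inv]
      exact pow_mem hg k
    · have mo : ∀ {z : G}, z ∈ O ⊔ A → Odd (orderOf z) → z ∈ O := fun hz ho =>
        zpowers_le.1 (hH.le_of_normal hd.norm (zpowers_le.2 (hle hz))
          ((isPiSubgroup_single_compl_iff Nat.prime_two).2 (by
            rw [Nat.card_zpowers]; exact ho.not_two_dvd_nat)))
      have h1 : g⁻¹ * y * g ∈ O := mo hg (by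
        rwa [show g⁻¹ * y * g = g⁻¹ * y * g⁻¹⁻¹ by rw [inv_inv], orderOf_conj])
      have h2 : g⁻¹ * y * g ≠ 1 := fun e => hy1 (by
        rwa [show g⁻¹ * y * g = g⁻¹ * y * g⁻¹⁻¹ by rw [inv_inv], conj_eq_one_iff] at e)
      have h3 : g⁻¹ * t * g ∈ C1[g⁻¹ * y * g] := mem_cent1.2 (by
        calc g⁻¹ * t * g * (g⁻¹ * y * g) = g⁻¹ * (t * y) * g := by group
          _ = _ := by rw [← mem_cent1.1 (hle hy)]; group)
      by_contra hne
      have h4 := (inv _ (hc _ h1 h2 h3) hne).2 _ h1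
      rw [mem_cent1.1 h3, mul_inv_cancel_right, eq_inv_iff_mul_eq_one] at h4
      exact h2 (odd1 _ h1 h4)
  · obtain ⟨g, hg⟩ := exists_conj_mem_of_index_two hG hS h.le h.card hu
    have := (uniq _ (mem_sup_right hg) (by
      rw [show g⁻¹ * u * g * (g⁻¹ * u * g) = g⁻¹ * (u * u) * g by group, hu]; simp)).resolve_left
      fun e => hu1 (by
        rwa [show g⁻¹ * u * g = g⁻¹ * u * g⁻¹⁻¹ by rw [inv_inv], conj_eq_one_iff] at e)
    exact isConj_iff.2 ⟨g, by rw [← this]; group⟩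

end Cfsg.Agent.Cls
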